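import Cfsg.Agent.StdL2.TowerFirst
import Cfsg.Agent.StdL2.G23Aut
import Cfsg.Agent.OddHalf.EightTorus.AbelAut
import Cfsg.Agent.Lib.SylowNormalInf
import Cfsg.Agent.UGT.EndBase
import Cfsg.Agent.UGT.EndJ1.Abs
import Cfsg.Agent.UGT.End_m3
import Cfsg.Agent.UGT.EndJ1.Data
import Mathlib
import Cfsg.Prelude.Def_Local
import Cfsg.Agent.Lib.Cores
import Cfsg.Agent.Lib.ThompsonPQ
import Cfsg.Agent.S0058
import Cfsg.Agent.SporadicA.OctadFix
import Cfsg.Agent.Lib.GenFitting
import Cfsg.Agent.J4Type.Aut22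
import Cfsg.Agent.SporadicStructure.MonoCounts
import Cfsg.Prelude.Def_Sporadic
import Cfsg.Agent.FixBN.HeStab
import Cfsg.Agent.Lib.ListFast
import Cfsg.Agent.FastGrp
import Cfsg.Agent.Prune
set_option linter.all false

section
prune_inst 0x7f00000000000000000000000000000000000000000000000000000000000000000000000000000000000000000000000000000000000000000000000000000000000000000000000000000000000000003fffffffffffffffffffffffffffbeffbdffffffff

-- part: OddHalf/EightTorus/Auto
section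
set_option linter.all false
open scoped Cfsg.Agent.FastGrp

/-!
# The automizer of an elementary abelian Sylow 2-subgroup of order 8 of a simple group

`K` simple, `V` an elementary abelian Sylow 2-subgroup of `K` of order 8, `K` normal in `C(t)`. Then
`N_K(V)` contains an element `d` acting regularly on `V \ {1}`, and `N(V) ∩ C(t)` induces a group of odd order on `V`.
-/

set_option autoImplicit false

namespace Cfsg.Agent.OddHalf.EightTorus.Auto

open Subgroup Cfsg.Agent.StdL2 Cfsg.Agent.StdL2.G23Aut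

/-- a subgroup of order 7 of a simple group of order 168 has a normalizer of order 21 -/
theorem card_normalizer {A : Type*} [Group A] [Finite A] (hA : IsSimpleGroup A) (h168 : Nat.card A = 168)
    (Y : Subgroup A) (hY : Nat.card Y = 7) : Nat.card (normalizer (Y : Set A)) = 21 := by
  classical
  have h7 : Fact (Nat.Prime 7) := ⟨by norm_num⟩
  have hidx : Y.index = 24 := by
    have h1 := Y.card_mul_index
    rw [hY, h168] at h1
    omega
  have hYp : IsPGroup 7 Y := IsPGroup.of_card (n := 1) (by rw [hY, pow_one])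
  let S : Sylow 7 A := hYp.toSylow (by rw [hidx]; norm_num)
  have hSY : (S : Subgroup A) = Y := rfl
  have h1 := S.card_dvd_index
  rw [hSY, hidx] at h1
  have h2 := card_sylow_modEq_one 7 A
  have h3 := S.card_eq_index_normalizer
  have h0 : ∀ n : ℕ, n ∣ 24 → n % 7 = 1 → n = 1 ∨ n = 8 := by
    intro n hn hn7
    have h5 : n ≤ 24 := Nat.le_of_dvd (by norm_num) hn
    interval_cases n <;> omega
  have h4 := h0 _ h1 h2
  have hN : (normalizer (S : Set A)) = normalizer (Y : Set A) := rfl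
  rcases h4 with h4 | h4
  · exfalso
    rw [h3, index_eq_one] at h4
    have hn : Y.Normal := by
      rw [← normalizer_eq_top_iff]
      exact h4
    rcases hn.eq_bot_or_eq_top with h | h
    · rw [h, card_bot] at hY
      omega
    · rw [h, card_top] at hY
      omega
  · have h5 := (normalizer (Y : Set A)).card_mul_index
    rw [h3] at h4
    have h6 : (normalizer (Y : Set A)).index = 8 := h4
    rw [h6, h168] at h5
    omega

/-- `X ≤ Z ≤ N(X)` in a simple group of order 168, `X` of odd order divisible by 7. -/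
theorem odd_of {A : Type*} [Group A] [Finite A] (hA : IsSimpleGroup A) (h168 : Nat.card A = 168)
    {X Z : Subgroup A} (hZX : Z ≤ normalizer (X : Set A)) (hodd : ¬ 2 ∣ Nat.card X)
    {y : A} (hyX : y ∈ X) (hy : orderOf y = 7) :
    ¬ 2 ∣ Nat.card Z ∧ ∀ z ∈ Z, z * y * z⁻¹ ∈ zpowers y := by
  classical
  have h7 : Fact (Nat.Prime 7) := ⟨by norm_num⟩
  have hYX : zpowers y ≤ X := zpowers_le.2 hyX
  have hY : Nat.card (zpowers y) = 7 := by rw [Nat.card_zpowers, hy]
  -- `|X|` is 7 or 21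
  have h21 : Nat.card X ∣ 21 := by
    have h1 : Nat.card X ∣ 168 := h168 ▸ card_subgroup_dvd_card X
    have h2 : Nat.Coprime (Nat.card X) 8 := by
      rw [show 8 = 2 ^ 3 by norm_num]
      exact Nat.Coprime.pow_right 3 ((Nat.prime_two.coprime_iff_not_dvd.2 hodd).symm)
    exact h2.dvd_of_dvd_mul_right (by rw [show 21 * 8 = 168 by norm_num]; exact h1)
  have h7X : 7 ∣ Nat.card X := by rw [← hY]; exact card_dvd_of_le hYX
  -- the subgroup of order 7 of `X` is unique
  have huniq : ∀ w ∈ X, orderOf w = 7 → w ∈ zpowers y := by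
    intro w hw hw7
    have hc : ∀ (u : A) (hu : u ∈ X), orderOf u = 7 → ∃ S : Sylow 7 X, (S : Subgroup X) = zpowers ⟨u, hu⟩ := by
      intro u hu hu7
      have h1 : Nat.card (zpowers (⟨u, hu⟩ : X)) = 7 := by
        rw [Nat.card_zpowers, Subgroup.orderOf_mk, hu7]
      have hp : IsPGroup 7 (zpowers (⟨u, hu⟩ : X)) := IsPGroup.of_card (n := 1) (by rw [h1, pow_one])
      refine ⟨hp.toSylow ?_, rfl⟩
      have h2 := (zpowers (⟨u, hu⟩ : X)).card_mul_index
      rw [h1] at h2
      intro h3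
      have h4 : 49 ∣ Nat.card X := by
        rw [← h2, show 49 = 7 * 7 by norm_num]
        exact mul_dvd_mul_left 7 h3
      have h5 := h4.trans h21
      omega
    obtain ⟨S₁, hS₁⟩ := hc y hyX hy
    obtain ⟨S₂, hS₂⟩ := hc w hw hw7
    have h1 := S₁.card_dvd_index
    have h2 := card_sylow_modEq_one 7 X
    have h3 : Nat.card (Sylow 7 X) = 1 := by
      have h4 : (S₁ : Subgroup X).index ∣ 3 := by
        have h5 := (S₁ : Subgroup X).card_mul_index
        rw [hS₁, Nat.card_zpowers, Subgroup.orderOf_mk, hy] at h5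
        rw [hS₁]
        have h6 : 7 * (zpowers (⟨y, hyX⟩ : X)).index ∣ 7 * 3 := by rw [h5]; exact h21
        exact Nat.dvd_of_mul_dvd_mul_left (by norm_num) h6
      have h5 : Nat.card (Sylow 7 X) ≤ 3 := Nat.le_of_dvd (by norm_num) (h1.trans h4)
      have h6 : Nat.card (Sylow 7 X) % 7 = 1 := h2
      omega
    have h4 : S₂ = S₁ := by
      have h5 := (Nat.card_eq_one_iff_unique.1 h3).1
      exact Subsingleton.elim _ _
    have h5 : (⟨w, hw⟩ : X) ∈ zpowers (⟨y, hyX⟩ : X) := by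
      rw [← hS₁, ← h4, hS₂]
      exact mem_zpowers _
    obtain ⟨k, hk⟩ := mem_zpowers_iff.1 h5
    exact mem_zpowers_iff.2 ⟨k, congrArg Subtype.val hk⟩
  have hZY : ∀ z ∈ Z, z * y * z⁻¹ ∈ zpowers y := by
    intro z hz
    apply huniq
    · exact (mem_normalizer_iff.1 (hZX hz) y).1 hyX
    · have h1 : z * y * z⁻¹ = MulAut.conj z y := rfl
      rw [h1, MulEquiv.orderOf_eq, hy]
  refine ⟨?_, hZY⟩
  have hle : Z ≤ normalizer ((zpowers y : Subgroup A) : Set A) := by
    intro z hz
    have hsub : ∀ z ∈ Z, ∀ x ∈ zpowers y, z * x * z⁻¹ ∈ zpowers y := by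
      rintro z hz _ ⟨k, rfl⟩
      show z * y ^ k * z⁻¹ ∈ zpowers y
      rw [← conj_zpow]
      exact zpow_mem (hZY z hz) k
    rw [mem_normalizer_iff]
    intro x
    constructor
    · exact hsub z hz x
    · intro hx
      have h1 := hsub z⁻¹ (inv_mem hz) _ hx
      have h2 : z⁻¹ * (z * x * z⁻¹) * z⁻¹⁻¹ = x := by group
      rwa [h2] at h1
  intro h2
  have h3 : Nat.card Z ∣ 21 := by
    rw [← card_normalizer hA h168 (zpowers y) hY]
    exact card_dvd_of_le hle
  have h4 := h2.trans h3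
  omega

/-- an automorphism of order 7 of an elementary abelian group of order 8 is regular -/
theorem regular {V : Type*} [Group V] [Finite V] (h8 : Nat.card V = 8) (y : MulAut V) (hy : orderOf y = 7)
    {v w : V} (hv : v ≠ 1) (hw : w ≠ 1) : ∃ n : ℕ, (y ^ n) v = w := by
  classical
  have h7 : Fact (Nat.Prime 7) := ⟨by norm_num⟩
  have hfree : ∀ n : ℕ, ¬ 7 ∣ n → (y ^ n) v ≠ v := by
    intro n hn hfix
    -- `y` fixes `v`
    have hcop : n.Coprime (orderOf y) := by
      rw [hy]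
      exact ((Nat.Prime.coprime_iff_not_dvd (by norm_num : Nat.Prime 7)).2 hn).symm
    obtain ⟨m, hm⟩ := exists_pow_eq_self_of_coprime hcop
    have h1 : ∀ m : ℕ, ((y ^ n) ^ m) v = v := by
      intro m
      induction m with
      | zero => simp
      | succ m ih => rw [pow_succ', MulAut.mul_apply, ih, hfix]
    have h2 : y v = v := by rw [← hm]; exact h1 m
    -- count fixed points
    have hp : IsPGroup 7 (zpowers y) := IsPGroup.of_card (n := 1) (by rw [Nat.card_zpowers, hy, pow_one])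
    have h3 := hp.card_modEq_card_fixedPoints V
    have hfixed : ∀ x : V, x ∈ MulAction.fixedPoints (zpowers y) V ↔ y x = x := by
      intro x
      constructor
      · intro h
        exact h ⟨y, mem_zpowers y⟩
      · intro h
        rintro ⟨z, hz⟩
        have h4 : y ∈ MulAction.stabilizer (MulAut V) x := h
        have h5 := (zpowers_le.2 h4) hz
        exact h5
    let F : Subgroup V :=
      { carrier := MulAction.fixedPoints (zpowers y) V
        one_mem' := (hfixed 1).2 (map_one y)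
        mul_mem' := by
          intro a b ha hb
          rw [hfixed] at *
          rw [map_mul, ha, hb]
        inv_mem' := by
          intro a ha
          rw [hfixed] at *
          rw [map_inv, ha] }
    have h4 : Nat.card (MulAction.fixedPoints (zpowers y) V) = Nat.card F := rfl
    have h5 : Nat.card F ∣ 8 := h8 ▸ card_subgroup_dvd_card F
    have h6 : Nat.card F ≠ 1 := by
      intro h
      rw [card_eq_one, eq_bot_iff] at h
      exact hv (mem_bot.1 (h ((hfixed v).2 h2)))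
    rw [h8, h4] at h3
    have h9 : Nat.card F = 8 := by
      have h10 : Nat.card F ≤ 8 := Nat.le_of_dvd (by norm_num) h5
      have h11 : 8 % 7 = Nat.card F % 7 := h3
      have h12 : 0 < Nat.card F := Nat.card_pos
      omega
    have h10 : F = ⊤ := by
      apply eq_top_of_card_eq
      rw [h9, h8]
    have h11 : y = 1 := by
      ext x
      have h12 : x ∈ F := by rw [h10]; trivial
      exact (hfixed x).1 h12
    rw [h11, orderOf_one] at hy
    omega
  -- the map `i ↦ y^i v`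
  let f : Fin 7 → {x : V // x ≠ 1} := fun i => ⟨(y ^ (i : ℕ)) v, by
    intro h
    apply hv
    apply (y ^ (i : ℕ)).injective
    rw [h, map_one]⟩
  have hinj : Function.Injective f := by
    intro i j hij
    have h1 : (y ^ (i : ℕ)) v = (y ^ (j : ℕ)) v := congrArg Subtype.val hij
    have key : ∀ a b : ℕ, a ≤ b → b < 7 → (y ^ a) v = (y ^ b) v → a = b := by
      intro a b hab hb h
      by_contra hne
      obtain ⟨c, rfl⟩ := Nat.exists_eq_add_of_le hab
      rw [pow_add, MulAut.mul_apply] at h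
      have h2 := (y ^ a).injective h
      refine hfree c ?_ h2.symm
      intro h3
      have := Nat.le_of_dvd (by omega) h3
      omega
    apply Fin.ext
    rcases le_total (i : ℕ) (j : ℕ) with h | h
    · exact key _ _ h j.2 h1
    · exact (key _ _ h i.2 h1.symm).symm
  have hcard : Nat.card {x : V // x ≠ 1} = 7 := by
    have : Fintype V := Fintype.ofFinite V
    rw [Nat.card_eq_fintype_card, Fintype.card_subtype_compl, Fintype.card_subtype_eq,
      ← Nat.card_eq_fintype_card, h8]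
  have hbij : Function.Bijective f := by
    have : Finite {x : V // x ≠ 1} := inferInstance
    have h1 : Nat.card (Fin 7) = Nat.card {x : V // x ≠ 1} := by rw [hcard, Nat.card_fin]
    exact hinj.bijective_of_nat_card_le (by rw [hcard, Nat.card_fin])
  obtain ⟨i, hi⟩ := hbij.2 ⟨w, hw⟩
  exact ⟨i, congrArg Subtype.val hi⟩

/-- an involution of an abelian Sylow 2-subgroup of a simple group which is centralized by its normalizer -/
theorem fixed_eq_one {K : Type*} [Group K] [Finite K] [IsSimpleGroup K] (hna : ∃ a b : K, a * b ≠ b * a)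
    (S : Sylow 2 K) (hS : ∀ x ∈ (S : Subgroup K), ∀ y ∈ (S : Subgroup K), x * y = y * x) {v : K}
    (hv : v ∈ (S : Subgroup K)) (hvv : v * v = 1) (hN : ∀ n ∈ normalizer (S : Set K), n * v * n⁻¹ = v) :
    v = 1 := by
  have h2 : Fact (Nat.Prime 2) := ⟨Nat.prime_two⟩
  by_contra hv1
  have hSc : IsMulCommutative (S : Subgroup K) := ⟨⟨fun x y => Subtype.ext (hS x x.2 y y.2)⟩⟩
  have hvo : orderOf v = 2 := orderOf_eq_prime_iff.2 ⟨by rw [pow_two]; exact hvv, hv1⟩
  obtain ⟨O, hO, hOodd, hOc⟩ := Cfsg.Agent.S0215.result S v hvo hv (by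
    intro g hg
    obtain ⟨n, hn, h3⟩ := Sylow.conj_eq_normalizer_conj_of_mem S v g⁻¹ hv (by rwa [inv_inv])
    rw [inv_inv] at h3
    rw [h3]
    have h4 := hN n⁻¹ (inv_mem hn)
    rwa [inv_inv] at h4)
  have hO1 : O = ⊥ := by
    rcases hO.eq_bot_or_eq_top with h | h
    · exact h
    · exfalso
      rw [h, card_top] at hOodd
      have h3 : 2 ∣ Nat.card K := by rw [← hvo]; exact orderOf_dvd_natCard v
      exact (Nat.not_even_iff_odd.2 hOodd) (even_iff_two_dvd.2 h3)
  have hcen : v ∈ center K := by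
    rw [mem_center_iff]
    intro g
    have h3 := hOc g
    rw [hO1, mem_bot, mul_inv_eq_one, mul_inv_eq_iff_eq_mul] at h3
    exact h3.symm
  rcases (inferInstance : (center K).Normal).eq_bot_or_eq_top with h | h
  · rw [h, mem_bot] at hcen
    exact hv1 hcen
  · obtain ⟨a, b, hab⟩ := hna
    have h1 : b ∈ center K := by rw [h]; trivial
    exact hab (mem_center_iff.1 h1 a)

/-- The local situation: `V` an elementary abelian Sylow 2-subgroup of order 8 of the simple subgroup `K`,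
normal in `C(t)`. -/
structure Loc {G : Type*} [Group G] (K V : Subgroup G) (t : G) : Prop where
  simple : IsSimpleGroup K
  na : ∃ x ∈ K, ∃ y ∈ K, x * y ≠ y * x
  VK : V ≤ K
  odd : ¬ 2 ∣ V.relIndex K
  oct : Oct V
  Kt : ∀ x ∈ K, x * t = t * x
  nK : ∀ g : G, g * t = t * g → g ∈ normalizer (K : Set G)

namespace Loc

variable {G : Type*} [Group G] [Finite G] {K V : Subgroup G} {t : G}

omit [Finite G] in
/-- conjugation on `V` -/
theorem exists_hom (V : Subgroup G) : ∃ ρ : normalizer (V : Set G) →* MulAut V,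
    ∀ (n : normalizer (V : Set G)) (x : V), ((ρ n x : V) : G) = n * x * (n : G)⁻¹ :=
  ⟨Subgroup.normalizerMonoidHom V, fun _ _ => rfl⟩

theorem main (h : Loc K V t) : ∃ d ∈ K, d ∈ normalizer (V : Set G) ∧ Tor t V d ∧
    (∀ P : Subgroup G, IsPGroup 2 P → (∀ x ∈ P, x * t = t * x) → P ≤ normalizer (V : Set G) →
      ∀ x ∈ P, ∀ v ∈ V, x * v = v * x) := by
  classical
  have hp2 : Fact (Nat.Prime 2) := ⟨Nat.prime_two⟩
  have hp3 : Fact (Nat.Prime 3) := ⟨Nat.prime_three⟩
  have hp7 : Fact (Nat.Prime 7) := ⟨by norm_num⟩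
  have hKs := h.simple
  obtain ⟨ρ, hρ⟩ := exists_hom V
  let N : Subgroup G := normalizer (V : Set G)
  let X : Subgroup (MulAut V) := (K.subgroupOf N).map ρ
  let Z : Subgroup (MulAut V) := ((centralizer ({t} : Set G)).subgroupOf N).map ρ
  have h168 := h.oct.card_aut
  have hAs := h.oct.simple_aut
  have hfin := h.oct.finite_aut
  have hVfin : Finite V := inferInstance
  have h8 := h.oct.card
  -- the Sylow subgroup
  have hVp : IsPGroup 2 V := IsPGroup.of_card (n := 3) (by rw [h8]; norm_num)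
  have hV' : IsPGroup 2 (V.subgroupOf K) := hVp.comap_subtype
  let S : Sylow 2 K := hV'.toSylow h.odd
  have hSV : (S : Subgroup K) = V.subgroupOf K := rfl
  have hScomm : ∀ x ∈ (S : Subgroup K), ∀ y ∈ (S : Subgroup K), x * y = y * x := by
    intro x hx y hy
    exact Subtype.ext (h.oct.comm (mem_subgroupOf.1 hx) (mem_subgroupOf.1 hy))
  have hna : ∃ a b : K, a * b ≠ b * a := by
    obtain ⟨x, hx, y, hy, hxy⟩ := h.na
    exact ⟨⟨x, hx⟩, ⟨y, hy⟩, fun h1 => hxy (congrArg Subtype.val h1)⟩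
  -- the order of `X`
  have hVN : V ≤ N := le_normalizer
  have hVker : V.subgroupOf N ≤ ρ.ker := by
    intro n hn
    rw [MonoidHom.mem_ker]
    ext x
    rw [hρ n x]
    show (n : G) * x * (n : G)⁻¹ = x
    rw [h.oct.comm (mem_subgroupOf.1 hn) x.2, mul_inv_cancel_right]
  have hXodd : ¬ 2 ∣ Nat.card X := by
    intro h2
    have h3 : Nat.card X ∣ V.relIndex (K ⊓ N) := by
      have h4 : Nat.card X = ρ.ker.relIndex (K.subgroupOf N) := (relIndex_ker _ ρ).symm
      rw [h4, ← inf_subgroupOf_right K N, ← relIndex_subgroupOf (H := V) (K := K ⊓ N) (L := N) inf_le_right]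
      exact relIndex_dvd_of_le_left _ hVker
    have h5 : V.relIndex (K ⊓ N) ∣ V.relIndex K :=
      ⟨_, (relIndex_mul_relIndex V (K ⊓ N) K (le_inf h.VK hVN) inf_le_left).symm⟩
    exact h.odd (h2.trans (h3.trans h5))
  have hX21 : Nat.card X ∣ 21 := by
    have h1 : Nat.card X ∣ 168 := h168 ▸ card_subgroup_dvd_card X
    have h2 : Nat.Coprime (Nat.card X) 8 := by
      rw [show 8 = 2 ^ 3 by norm_num]
      exact Nat.Coprime.pow_right 3 ((Nat.prime_two.coprime_iff_not_dvd.2 hXodd).symm)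
    exact h2.dvd_of_dvd_mul_right (by rw [show 21 * 8 = 168 by norm_num]; exact h1)
  have h7X : 7 ∣ Nat.card X := by
    by_contra h7
    have h1 : Nat.card X = 1 ∨ Nat.card X = 3 := by
      have h2 : ∀ n : ℕ, n ∣ 21 → ¬ 7 ∣ n → n = 1 ∨ n = 3 := by
        intro n hn
        have h5 : n ≤ 21 := Nat.le_of_dvd (by norm_num) hn
        interval_cases n <;> omega
      exact h2 _ hX21 h7
    have h2 : IsPGroup 3 X := by
      rcases h1 with h1 | h1
      · exact IsPGroup.of_card (n := 0) (by rw [h1, pow_zero])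
      · exact IsPGroup.of_card (n := 1) (by rw [h1, pow_one])
    have h3 := h2.card_modEq_card_fixedPoints V
    rw [h8] at h3
    have h4 : 1 < Nat.card (MulAction.fixedPoints X V) := by
      have h5 : 8 % 3 = Nat.card (MulAction.fixedPoints X V) % 3 := h3
      omega
    have h5 : ∃ v : V, v ≠ 1 ∧ v ∈ MulAction.fixedPoints X V := by
      by_contra hcon
      push Not at hcon
      have h6 : MulAction.fixedPoints X V ⊆ {1} := by
        intro v hv
        by_contra h7
        exact hcon v h7 hv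
      have h7 : Nat.card (MulAction.fixedPoints X V) ≤ Nat.card ({1} : Set V) :=
        Nat.card_mono (Set.toFinite _) h6
      have h8 : Nat.card ({1} : Set V) = 1 := Nat.card_unique
      omega
    obtain ⟨v, hv1, hv⟩ := h5
    have h6 : (⟨(v : G), h.VK v.2⟩ : K) = 1 := by
      refine fixed_eq_one hna S hScomm ?_ ?_ ?_
      · rw [hSV]; exact mem_subgroupOf.2 v.2
      · exact Subtype.ext (h.oct.sq v v.2)
      · intro n hn
        have hnN : (n : G) ∈ N := by
          have h8 : ∀ g : K, g ∈ normalizer ((S : Subgroup K) : Set K) → ∀ x ∈ V, (g : G) * x * (g : G)⁻¹ ∈ V := by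
            intro g hg x hx
            have h9 := (mem_normalizer_iff.1 hg ⟨x, h.VK hx⟩).1 (by rw [hSV]; exact mem_subgroupOf.2 hx)
            rw [hSV] at h9
            exact mem_subgroupOf.1 h9
          show (n : G) ∈ normalizer (V : Set G)
          rw [mem_normalizer_iff]
          intro x
          constructor
          · exact h8 n hn x
          · intro hx
            have h9 := h8 n⁻¹ (inv_mem hn) _ hx
            have h10 : ((n⁻¹ : K) : G) * ((n : G) * x * (n : G)⁻¹) * ((n⁻¹ : K) : G)⁻¹ = x := by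
              rw [coe_inv]; group
            rwa [h10] at h9
        have h8 : ρ ⟨n, hnN⟩ ∈ X := ⟨⟨n, hnN⟩, mem_subgroupOf.2 n.2, rfl⟩
        have h9 : (ρ ⟨n, hnN⟩) v = v := hv ⟨_, h8⟩
        have h10 := hρ ⟨n, hnN⟩ v
        rw [h9] at h10
        exact Subtype.ext h10.symm
    have h7 : (v : G) = 1 := congrArg (Subtype.val : K → G) h6
    exact hv1 (Subtype.ext h7)
  obtain ⟨y, hy7⟩ := exists_prime_orderOf_dvd_card' 7 h7X
  obtain ⟨⟨y, hyX⟩, hy7⟩ : ∃ y : X, orderOf y = 7 := ⟨y, hy7⟩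
  rw [Subgroup.orderOf_mk] at hy7
  obtain ⟨d, hdK, hdy⟩ := hyX
  have hdK' : (d : G) ∈ K := mem_subgroupOf.1 hdK
  -- `Z` normalizes `X`
  have hZX : Z ≤ normalizer (X : Set (MulAut V)) := by
    have h1 : ∀ z ∈ Z, ∀ x ∈ X, z * x * z⁻¹ ∈ X := by
      rintro _ ⟨n, hn, rfl⟩ _ ⟨k, hk, rfl⟩
      refine ⟨n * k * n⁻¹, ?_, by rw [map_mul, map_mul, map_inv]⟩
      have h2 : (n : G) ∈ normalizer (K : Set G) := h.nK _ (mem_centralizer_singleton_iff.1 (mem_subgroupOf.1 hn))
      exact mem_subgroupOf.2 ((mem_normalizer_iff.1 h2 _).1 (mem_subgroupOf.1 hk))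
    intro z hz
    rw [mem_normalizer_iff]
    intro x
    constructor
    · exact h1 z hz x
    · intro hx
      have h2 := h1 z⁻¹ (inv_mem hz) _ hx
      have h3 : z⁻¹ * (z * x * z⁻¹) * z⁻¹⁻¹ = x := by group
      rwa [h3] at h2
  obtain ⟨hZ2, hZy⟩ := odd_of hAs h168 hZX hXodd ⟨d, hdK, hdy⟩ hy7
  -- elements of `C(t)` normalizing `V`
  have hpow : ∀ (n : ℕ) (v : V), (((y ^ n : MulAut V) v : V) : G) = (d : G) ^ n * v * ((d : G) ^ n)⁻¹ := by
    intro n v
    rw [← hdy, ← map_pow, hρ (d ^ n) v]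
    rfl
  have hmemN : ∀ n : G, (∀ v ∈ V, n * v * n⁻¹ ∈ V) → n ∈ N := by
    intro n hn
    show n ∈ normalizer (V : Set G)
    have h1 : V.map (MulAut.conj n).toMonoidHom = V := by
      have hle : V.map (MulAut.conj n).toMonoidHom ≤ V := by
        rintro _ ⟨v, hv, rfl⟩
        exact hn v hv
      apply eq_of_le_of_card_ge hle
      rw [card_map_of_injective (MulAut.conj n).injective]
    rw [mem_normalizer_iff]
    intro x
    constructor
    · exact hn x
    · intro hx
      rw [← h1] at hx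
      obtain ⟨v, hv, hvx⟩ := hx
      have h2 : n * v * n⁻¹ = n * x * n⁻¹ := hvx
      have h3 : v = x := by simpa using h2
      rwa [← h3]
  refine ⟨d, hdK', d.2, ?_, ?_⟩
  · refine ⟨h.Kt _ hdK', ?_, ?_, ?_⟩
    · intro v hv
      exact (mem_normalizer_iff.1 d.2 v).1 hv
    · intro v hv w hw hv1 hw1
      obtain ⟨n, hn⟩ := regular h8 y hy7 (v := ⟨v, hv⟩) (w := ⟨w, hw⟩)
        (fun h1 => hv1 (congrArg Subtype.val h1)) (fun h1 => hw1 (congrArg Subtype.val h1))
      refine ⟨n, ?_⟩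
      have h1 := hpow n ⟨v, hv⟩
      rw [hn] at h1
      exact h1.symm
    · intro n hnt hnV
      have hnN := hmemN n hnV
      have hZn : ρ ⟨n, hnN⟩ ∈ Z :=
        ⟨⟨n, hnN⟩, mem_subgroupOf.2 (mem_centralizer_singleton_iff.2 hnt), rfl⟩
      have h1 := hZy _ hZn
      obtain ⟨m, hm⟩ := (mem_zpowers_iff_mem_range_orderOf.1 h1 |> Finset.mem_image.1)
      refine ⟨m, ?_⟩
      intro v hv
      have h2 := hpow m ⟨v, hv⟩
      rw [hm.2, ← hdy, ← map_inv, ← map_mul, ← map_mul, hρ] at h2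
      exact h2
  · intro P hP hPt hPN x hx v hv
    have hxN : x ∈ N := hPN hx
    have h1 : ρ ⟨x, hxN⟩ = 1 := by
      have hxZ : ρ ⟨x, hxN⟩ ∈ Z :=
        ⟨⟨x, hxN⟩, mem_subgroupOf.2 (mem_centralizer_singleton_iff.2 (hPt x hx)), rfl⟩
      obtain ⟨k, hk⟩ := hP ⟨x, hx⟩
      have hk' : x ^ (2 ^ k) = 1 := congrArg Subtype.val hk
      have h2 : (ρ ⟨x, hxN⟩) ^ (2 ^ k) = 1 := by
        rw [← map_pow]
        have h3 : (⟨x, hxN⟩ : N) ^ (2 ^ k) = 1 := Subtype.ext hk'
        rw [h3, map_one]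
      have h3 : orderOf (ρ ⟨x, hxN⟩) ∣ 2 ^ k := orderOf_dvd_of_pow_eq_one h2
      have h4 : orderOf (ρ ⟨x, hxN⟩) ∣ Nat.card Z := by
        rw [← Nat.card_zpowers]
        exact card_dvd_of_le (zpowers_le.2 hxZ)
      have h5 : Nat.Coprime (Nat.card Z) (2 ^ k) :=
        Nat.Coprime.pow_right k ((Nat.prime_two.coprime_iff_not_dvd.2 hZ2).symm)
      have h6 : orderOf (ρ ⟨x, hxN⟩) ∣ 1 := by
        rw [← h5]
        exact Nat.dvd_gcd h4 h3
      exact orderOf_eq_one_iff.1 (Nat.dvd_one.1 h6)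
    have h2 := hρ ⟨x, hxN⟩ ⟨v, hv⟩
    rw [h1] at h2
    have h3 : v = x * v * x⁻¹ := h2
    exact (eq_mul_inv_iff_mul_eq.1 h3).symm

end Loc

end Cfsg.Agent.OddHalf.EightTorus.Auto
end

-- part: UGT/EndJ1/Inner
section
set_option linter.all false
open scoped Cfsg.Agent.FastGrp

/-!
# Simple groups with elementary abelian Sylow 2-subgroups of order 8: involutory automorphisms are inner

Together with `Abs.Bal` this gives `EndBase.AutCoreFree` (so: locally balanced).
-/

set_option autoImplicit false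

namespace Cfsg.Agent.UGT.EndJ1.Inner

open Subgroup Cfsg Cfsg.Agent.StdL2.G23Aut Cfsg.Agent.OddHalf.EightTorus

universe u

/-- **An automorphism of order 2 of a simple group with elementary abelian Sylow 2-subgroups of order 8 is
inner.** -/
theorem exists_conj {K : Type u} [Group K] [Finite K] [IsSimpleGroup K] (hna : ∃ a b : K, a * b ≠ b * a)
    (hsyl : ∀ S : Sylow 2 K, Nat.card S = 8 ∧ ∀ x ∈ (S : Subgroup K), x * x = 1)
    (σ : MulAut K) (hσ : orderOf σ = 2) : ∃ v : K, σ = MulAut.conj v := by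
  classical
  have h2 : Fact (Nat.Prime 2) := ⟨Nat.prime_two⟩
  have hc : center K = ⊥ := by
    rcases (inferInstance : (center K).Normal).eq_bot_or_eq_top with h | h
    · exact h
    · exfalso
      obtain ⟨a, b, hab⟩ := hna
      have h1 : b ∈ center K := by rw [h]; trivial
      exact hab (mem_center_iff.1 h1 a)
  have hinj := EndBase.conj_inj hc
  set R : Subgroup (MulAut K) := (MulAut.conj : K →* MulAut K).range with hR
  have hRn : R.Normal := by
    refine ⟨?_⟩
    rintro _ ⟨x, rfl⟩ φ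
    exact ⟨φ x, EndBase.conj_app φ x⟩
  have e : K ≃* R := MonoidHom.ofInjective hinj
  have hRs : IsSimpleGroup R := e.symm.isSimpleGroup
  have hpσ : IsPGroup 2 (zpowers σ) := IsPGroup.of_card (n := 1) (by rw [Nat.card_zpowers, hσ, pow_one])
  obtain ⟨P, hP⟩ := hpσ.exists_le_sylow
  let V : Subgroup (MulAut K) := (P : Subgroup (MulAut K)) ⊓ R
  have hVR : V ≤ R := inf_le_right
  have hVodd : ¬ 2 ∣ V.relIndex R := by
    have h1 := Lib.SylowNormalInf.not_dvd_relIndex P R
    rwa [← inf_relIndex_right] at h1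
  -- the Sylow subgroup of `K`
  have hSp : IsPGroup 2 (V.comap (MulAut.conj : K →* MulAut K)) :=
    (P.isPGroup'.to_le inf_le_left).comap_of_injective _ hinj
  have hidx : ¬ 2 ∣ (V.comap (MulAut.conj : K →* MulAut K)).index := by
    rw [index_comap]
    exact hVodd
  let S : Sylow 2 K := hSp.toSylow hidx
  have hS : (S : Subgroup K) = V.comap (MulAut.conj : K →* MulAut K) := rfl
  have hmap : (S : Subgroup K).map (MulAut.conj : K →* MulAut K) = V := by
    rw [hS, map_comap_eq, inf_eq_right]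
    exact hVR
  obtain ⟨h8, hsq⟩ := hsyl S
  have hoct : Oct V := by
    refine ⟨?_, ?_⟩
    · rw [← hmap, card_map_of_injective hinj]
      exact h8
    · intro v hv
      rw [← hmap] at hv
      obtain ⟨s, hs, rfl⟩ := hv
      rw [← map_mul, hsq s hs, map_one]
  have hLoc : Auto.Loc R V (1 : MulAut K) := by
    refine ⟨hRs, ?_, hVR, hVodd, hoct, fun _ _ => by rw [mul_one, one_mul], fun g _ => ?_⟩
    · obtain ⟨a, b, hab⟩ := hna
      refine ⟨_, ⟨a, rfl⟩, _, ⟨b, rfl⟩, fun h => hab (hinj ?_)⟩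
      rw [map_mul, map_mul, h]
    · rw [normalizer_eq_top_iff.2 hRn]
      exact mem_top g
  obtain ⟨-, -, -, -, hcomm⟩ := hLoc.main
  have hσN : zpowers σ ≤ normalizer (V : Set (MulAut K)) := by
    have hle : ∀ p ∈ (P : Subgroup (MulAut K)), ∀ v ∈ V, p * v * p⁻¹ ∈ V := by
      intro p hp v hv
      exact ⟨(P : Subgroup (MulAut K)).mul_mem ((P : Subgroup (MulAut K)).mul_mem hp hv.1)
        ((P : Subgroup (MulAut K)).inv_mem hp), hRn.conj_mem v hv.2 p⟩
    intro p hp
    rw [mem_normalizer_iff]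
    intro v
    constructor
    · exact hle p (hP hp) v
    · intro hv
      have h1 := hle p⁻¹ ((P : Subgroup (MulAut K)).inv_mem (hP hp)) _ hv
      have h3 : p⁻¹ * (p * v * p⁻¹) * p⁻¹⁻¹ = v := by group
      rwa [h3] at h1
  have hσV := hcomm (zpowers σ) hpσ (fun _ _ => by rw [mul_one, one_mul]) hσN σ (mem_zpowers σ)
  have hfix : ∀ s ∈ (S : Subgroup K), σ s = s := by
    intro s hs
    apply hinj
    rw [EndBase.conj_app]
    have h1 := hσV (MulAut.conj s) (by rw [← hmap]; exact ⟨s, hs, rfl⟩)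
    rw [h1, mul_inv_cancel_right]
  have hScomm : ∀ x ∈ (S : Subgroup K), ∀ y ∈ (S : Subgroup K), x * y = y * x := by
    intro x hx y hy
    have h1 := hsq x hx
    have h3 := hsq y hy
    have h4 := hsq _ ((S : Subgroup K).mul_mem hx hy)
    calc x * y = (x * y)⁻¹ := (inv_eq_of_mul_eq_one_right h4).symm
      _ = y * x := by rw [mul_inv_rev, inv_eq_of_mul_eq_one_right h1, inv_eq_of_mul_eq_one_right h3]
  have hS1 : (S : Subgroup K) ≠ ⊥ := by
    intro h
    have h1 : Nat.card (S : Subgroup K) = 8 := h8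
    rw [h, card_bot] at h1
    omega
  obtain ⟨v, -, hv⟩ := AbelAut.eq_conj hna S hScomm hS1 σ hpσ hfix
  refine ⟨v, ?_⟩
  ext x
  rw [hv x, MulAut.conj_apply]

theorem autCoreFree {K : Type u} [Group K] [IsSimpleGroup K] (hna : ¬ IsMulCommutative K)
    (B : Abs.Bal K) : EndBase.AutCoreFree K ∧ center K = ⊥ := by
  have hfin := B.fin
  have hna' : ∃ a b : K, a * b ≠ b * a := by
    by_contra h
    push Not at h
    exact hna ⟨⟨h⟩⟩
  have hc : center K = ⊥ := by
    rcases (inferInstance : (center K).Normal).eq_bot_or_eq_top with h | h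
    · exact h
    · exfalso
      obtain ⟨a, b, hab⟩ := hna'
      have h1 : b ∈ center K := by rw [h]; trivial
      exact hab (mem_center_iff.1 h1 a)
  have hinj := EndBase.conj_inj hc
  have key : ∀ σ : MulAut K, orderOf σ = 2 → ∃ v : K, σ = MulAut.conj v ∧ v * v = 1 ∧ v ≠ 1 := by
    intro σ hσ
    obtain ⟨v, hv⟩ := exists_conj hna' B.syl σ hσ
    refine ⟨v, hv, ?_, ?_⟩
    · apply hinj
      rw [map_mul, map_one, ← hv, ← pow_two, ← hσ, pow_orderOf_eq_one]
    · rintro rfl
      rw [hv, map_one, orderOf_one] at hσ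
      omega
  refine ⟨⟨?_, ?_⟩, hc⟩
  · intro σ hσ Y hY hfix hn
    obtain ⟨v, rfl, hvv, hv1⟩ := key σ hσ
    have hcen : ∀ x : K, x ∈ centralizer ({v} : Set K) ↔ MulAut.conj v x = x := by
      intro x
      rw [mem_centralizer_singleton_iff, MulAut.conj_apply, mul_inv_eq_iff_eq_mul]
      exact eq_comm
    exact B.core v hvv hv1 Y (fun x hx => (hcen x).2 (hfix x hx)) (fun g hg x hx => hn g ((hcen g).1 hg) x hx) hY
  · intro σ ρ hσ _ hρ hfix
    obtain ⟨v, rfl, hvv, hv1⟩ := key σ hσ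
    have h1 : ρ = 1 := by
      apply B.aut v hvv hv1 ρ hρ
      intro x hx
      apply hfix
      rw [MulAut.conj_apply, mul_inv_eq_iff_eq_mul, hx]
    rw [h1]
    exact one_mem _

/-- a simple group with `Bal` is locally balanced -/
theorem locallyBalanced {K : Type u} [Group K] [IsSimpleGroup K] (hna : ¬ IsMulCommutative K)
    (B : Abs.Bal K) : IsLocallyBalanced K := by
  have hfin := B.fin
  obtain ⟨h, hc⟩ := autCoreFree hna B
  exact h.locallyBalanced hc

end Cfsg.Agent.UGT.EndJ1.Inner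
end

-- part: UGT/EndJ1/Main
section
set_option linter.all false
open scoped Cfsg.Agent.FastGrp

/-!
# END(J₁)

`J₁` is locally balanced: `O(C_G(t)) = 1` for every involution `t` of a group `G` with `F*(G) ≅ J₁`.
-/

set_option autoImplicit false

namespace Cfsg.Agent.UGT.EndJ1.Main

open Subgroup Cfsg
open Cfsg.Agent.UGT.Iface

universe u

local notation "Fs" => generalizedFittingSubgroup

theorem simple : IsSimpleGroup Spor.J1 := SporadicB.J1.Main.isJ1.1

theorem not_comm : ¬ IsMulCommutative Spor.J1 := by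
  intro h
  have hs := simple
  let _ : CommGroup Spor.J1 := { (inferInstance : Group Spor.J1) with mul_comm := h.is_comm.comm }
  have hfin : Finite Spor.J1 := Data.bal.fin
  have hp : (Nat.card Spor.J1).Prime := IsSimpleGroup.prime_card
  rw [SporadicB.J1.Main.isJ1.2] at hp
  norm_num at hp

theorem locallyBalanced_J1 : IsLocallyBalanced Spor.J1 := by
  have hs := simple
  exact Inner.locallyBalanced not_comm Data.bal

/-- groups isomorphic to `J₁` are locally balanced -/
theorem locallyBalanced {X : Type u} [Group X] (h : Spor.IsoJ1 X) : IsLocallyBalanced X := by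
  obtain ⟨e⟩ := h
  exact End.locallyBalanced_congr e.symm locallyBalanced_J1

/-- the node END for `J₁` -/
theorem lb {X : Type u} [Group X] (h : Spor.IsoJ1 X) : End.LB X := by
  have h1 := locallyBalanced h
  obtain ⟨e⟩ := h
  exact End.LB.of_locallyBalanced (FixBN.BRelative.simple_congr e.symm simple)
    (FixBN.BRelative.not_comm_congr e.symm not_comm) h1

/-- **END(J₁)**: `F*(G)` of a minimal counterexample is not `J₁` -/
theorem not_minCex {G : Type u} [Group G] [Finite G] (h : MinCex G) : ¬ Spor.IsoJ1 ↥(Fs G) :=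
  fun hJ => End.not_minCex h (lb hJ)

end Cfsg.Agent.UGT.EndJ1.Main
end

-- part: UGT/End/CoreE
section
set_option linter.all false
open scoped Cfsg.Agent.FastGrp

/-!
# UGT, END nodes: a `K`-free criterion for `O(C_G(t)) = 1` (helper818)

`t` an involution, `R` a subgroup of odd order of `C(t)` normalised by `C_H(t)`.

* `comm_of_norm`: if `X ≤ R` normalises a `t`-invariant 2-subgroup `F ≤ H`, then `X` centralises `F`
  (`[X, C_F(t)] ≤ F ∩ R = 1`, Thompson's `A × B` lemma).
* `eq_bot_of_family`: `V ≤ C_H(t)` elementary abelian of order at least 4; if for every `v ∈ V - 1` there is a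
  `t`-invariant 2-subgroup `F ≤ H` normalised by `C_R(v)` such that no element `≠ 1` of `C_R(v)` centralises
  `F`, then `R = 1`.
* `eq_bot_of_elem`: `E ≤ H` elementary abelian, `t`-invariant, `|C_E(t)| ≥ 4`, `C_R(v)` normalises `E` for
  `v ∈ C_E(t) - 1`, `C_R(E) = 1`; then `R = 1`.
* `core_eq_bot_of_family`, `core_eq_bot_of_elem`: the same for `R = O(C_G(t))`.
-/

set_option autoImplicit false

open Cfsg Subgroup

namespace Cfsg.Agent.UGT.End.CoreE

variable {G : Type*} [Group G]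

theorem mem_normalizer_of {U : Subgroup G} {x : G} (h1 : ∀ u ∈ U, x * u * x⁻¹ ∈ U)
    (h2 : ∀ u ∈ U, x⁻¹ * u * x ∈ U) : x ∈ normalizer (U : Set G) := by
  rw [mem_normalizer_iff]
  intro y
  refine ⟨h1 y, fun h3 => ?_⟩
  have h4 := h2 _ h3
  have e : x⁻¹ * (x * y * x⁻¹) * x = y := by group
  rwa [e] at h4

theorem isPGroup_zpowers {t : G} (tt : t * t = 1) : IsPGroup 2 (zpowers t) := by
  rintro ⟨a, ha⟩
  obtain ⟨i, rfl⟩ := mem_zpowers_iff.1 ha
  refine ⟨1, Subtype.ext ?_⟩
  show (t ^ i) ^ (2 ^ 1) = 1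
  rw [pow_one, pow_two, ← (Commute.refl t).mul_zpow, tt, one_zpow]

theorem isPGroup_of_elem {V : Subgroup G} (hV : IsElementaryAbelian 2 V) : IsPGroup 2 V := by
  intro x
  refine ⟨1, Subtype.ext ?_⟩
  rw [pow_one]
  exact hV.2 x x.2

theorem eq_one_of_mem_both {F R : Subgroup G} [Finite G] (hF : IsPGroup 2 F) (hR : Odd (Nat.card R)) {x : G}
    (hxF : x ∈ F) (hxR : x ∈ R) : x = 1 := by
  have h1 : Odd (orderOf x) := by
    have h1 : orderOf (⟨x, hxR⟩ : R) ∣ Nat.card R := orderOf_dvd_natCard _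
    rw [Subgroup.orderOf_mk] at h1
    exact Odd.of_dvd_nat hR h1
  obtain ⟨k, hk⟩ := hF ⟨x, hxF⟩
  have h2 : x ^ 2 ^ k = 1 := congrArg Subtype.val hk
  have h3 : orderOf x ∣ 2 ^ k := orderOf_dvd_of_pow_eq_one h2
  have h4 : orderOf x = 1 := by
    have h5 : Nat.Coprime (orderOf x) (2 ^ k) := Nat.Coprime.pow_right k (Nat.coprime_two_right.2 h1)
    exact Nat.eq_one_of_dvd_coprimes h5 dvd_rfl h3
  exact orderOf_eq_one_iff.1 h4

/-- `X ≤ R` normalises the `t`-invariant 2-group `F`: then `X` centralises `F`. -/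
theorem comm_of_norm [Finite G] {t : G} (htt : t * t = 1) {F R X : Subgroup G} (hF : IsPGroup 2 F)
    (htF : ∀ e ∈ F, t * e * t⁻¹ ∈ F) (hR : Odd (Nat.card R)) (hRt : ∀ r ∈ R, r * t = t * r)
    (hnR : ∀ v ∈ F, v * t = t * v → ∀ r ∈ R, v * r * v⁻¹ ∈ R) (hXR : X ≤ R)
    (hXF : ∀ x ∈ X, ∀ e ∈ F, x * e * x⁻¹ ∈ F) : ∀ x ∈ X, ∀ e ∈ F, x * e = e * x := by
  have ht' : t⁻¹ = t := inv_eq_of_mul_eq_one_right htt
  have htn : t ∈ normalizer (F : Set G) := by
    apply mem_normalizer_of htF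
    intro u hu
    have := htF u hu
    rwa [ht'] at this ⊢
  have hXn : X ≤ normalizer (F : Set G) := by
    intro x hx
    apply mem_normalizer_of (hXF x hx)
    intro u hu
    have := hXF x⁻¹ (inv_mem hx) u hu
    rwa [inv_inv] at this
  have hcard : (Nat.card X).Coprime 2 :=
    Nat.coprime_two_right.2 (Odd.of_dvd_nat hR (card_dvd_of_le hXR))
  have key := Cfsg.Agent.Lib.ThompsonPQ.thompson_p_times_q 2 (zpowers t) X F (isPGroup_zpowers htt)
    hcard hF
    (by
      rw [zpowers_le, mem_centralizer_iff]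
      intro y hy
      exact hRt y (hXR hy))
    (by rw [zpowers_le]; exact htn) hXn
    (by
      rintro y ⟨hy1, hy2⟩
      have h1 : y * t = t * y := (mem_centralizer_iff.1 hy2 t (mem_zpowers t)).symm
      rw [mem_centralizer_iff]
      intro x hx
      -- `[x, y] ∈ F ∩ R`
      have h2 : x * y * x⁻¹ * y⁻¹ ∈ F := F.mul_mem (hXF x hx y hy1) (F.inv_mem hy1)
      have h3 : x * y * x⁻¹ * y⁻¹ ∈ R := by
        have h4 := hnR y hy1 h1 x⁻¹ (R.inv_mem (hXR hx))
        have e : x * y * x⁻¹ * y⁻¹ = x * (y * x⁻¹ * y⁻¹) := by group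
        rw [e]
        exact R.mul_mem (hXR hx) h4
      have h4 := eq_one_of_mem_both hF hR h2 h3
      have h5 : x * y * x⁻¹ = y := by rw [mul_inv_eq_one] at h4; exact h4
      rw [mul_inv_eq_iff_eq_mul] at h5
      exact h5)
  intro x hx e he
  exact (mem_centralizer_iff.1 (key hx) e he).symm

/-- generation by the centralisers of the involutions of a four-group -/
theorem le_of_four [Finite G] {E D H : Subgroup G} (hE : IsElementaryAbelian 2 E)
    (hE4 : 4 ≤ Nat.card E) (hED : E ≤ Subgroup.normalizer (D : Set G)) (hD : Odd (Nat.card D))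
    (h : ∀ a ∈ E, a ≠ 1 → D ⊓ Subgroup.centralizer {a} ≤ H) : D ≤ H := by
  have := hE.1
  have hncyc : ¬ IsCyclic E := by
    intro hcyc
    obtain ⟨g, hg⟩ := IsCyclic.exists_generator (α := E)
    have h3 : orderOf g = Nat.card E := orderOf_eq_card_of_forall_mem_zpowers hg
    have h4 : g ^ 2 = 1 := by
      ext
      simpa using hE.2 g g.2
    have h5 : orderOf g ≤ 2 := orderOf_le_of_pow_eq_one (by norm_num) h4
    omega
  have hcop : (Nat.card E).Coprime (Nat.card D) := by
    obtain ⟨n, hn⟩ := (IsPGroup.iff_card (p := 2)).1 (isPGroup_of_elem hE)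
    rw [hn]
    exact Nat.Coprime.pow_left n (Nat.coprime_two_left.2 hD)
  rw [← S0058.result E D hncyc hED hcop]
  refine iSup₂_le ?_
  rintro a ⟨ha, ha1⟩
  exact h a ha ha1

/-- **Criterion, general form.** -/
theorem eq_bot_of_family [Finite G] {t : G} (htt : t * t = 1) {H V R : Subgroup G}
    (hV : IsElementaryAbelian 2 V) (h4 : 4 ≤ Nat.card V) (hVH : V ≤ H) (hVt : ∀ v ∈ V, v * t = t * v)
    (hR : Odd (Nat.card R)) (hRt : ∀ r ∈ R, r * t = t * r)
    (hnR : ∀ c ∈ H, c * t = t * c → ∀ r ∈ R, c * r * c⁻¹ ∈ R)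
    (h : ∀ v ∈ V, v ≠ 1 → ∃ F : Subgroup G, F ≤ H ∧ IsPGroup 2 F ∧ (∀ e ∈ F, t * e * t⁻¹ ∈ F) ∧
      (∀ r ∈ R, r * v = v * r → ∀ e ∈ F, r * e * r⁻¹ ∈ F) ∧
      (∀ r ∈ R, r * v = v * r → (∀ e ∈ F, r * e = e * r) → r = 1)) : R = ⊥ := by
  rw [eq_bot_iff]
  refine le_of_four hV h4 ?_ hR ?_
  · intro v hv
    apply mem_normalizer_of (hnR v (hVH hv) (hVt v hv))
    intro u hu
    have := hnR v⁻¹ (H.inv_mem (hVH hv)) (hVt v⁻¹ (V.inv_mem hv)) u hu
    rwa [inv_inv] at this
  · intro v hv hv1 r hr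
    obtain ⟨hr1, hr2⟩ := mem_inf.1 hr
    have hrv : r * v = v * r := mem_centralizer_singleton_iff.1 hr2
    obtain ⟨F, hFH, hF, htF, hn, hc⟩ := h v hv hv1
    rw [mem_bot]
    refine hc r hr1 hrv ?_
    have key := comm_of_norm htt (X := R ⊓ centralizer {v}) hF htF hR hRt
      (fun c hc1 hc2 => hnR c (hFH hc1) hc2) inf_le_left
      (fun x hx e he => hn x (mem_inf.1 hx).1 (mem_centralizer_singleton_iff.1 (mem_inf.1 hx).2) e he)
    exact key r hr

/-- **Criterion for one elementary abelian `E`.** -/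
theorem eq_bot_of_elem [Finite G] {t : G} (htt : t * t = 1) {H E R : Subgroup G}
    (hE : IsElementaryAbelian 2 E) (hEH : E ≤ H) (htE : ∀ e ∈ E, t * e * t⁻¹ ∈ E)
    (h4 : 4 ≤ Nat.card ↥(E ⊓ centralizer {t}))
    (hR : Odd (Nat.card R)) (hRt : ∀ r ∈ R, r * t = t * r)
    (hnR : ∀ c ∈ H, c * t = t * c → ∀ r ∈ R, c * r * c⁻¹ ∈ R)
    (hv : ∀ v ∈ E, v ≠ 1 → v * t = t * v → ∀ r ∈ R, r * v = v * r → ∀ e ∈ E, r * e * r⁻¹ ∈ E)
    (hc : ∀ r ∈ R, (∀ e ∈ E, r * e = e * r) → r = 1) : R = ⊥ := by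
  have hV : IsElementaryAbelian 2 (E ⊓ centralizer {t} : Subgroup G) := by
    refine ⟨?_, fun x hx => hE.2 x (mem_inf.1 hx).1⟩
    have := hE.1
    refine ⟨⟨fun a b => Subtype.ext ?_⟩⟩
    have h := congrArg (fun x : E => (x : G))
      (mul_comm' (⟨(a : G), (mem_inf.1 a.2).1⟩ : E) ⟨(b : G), (mem_inf.1 b.2).1⟩)
    exact h
  refine eq_bot_of_family htt (V := E ⊓ centralizer {t}) hV h4 (inf_le_left.trans hEH)
    (fun v hv => mem_centralizer_singleton_iff.1 (mem_inf.1 hv).2) hR hRt hnR ?_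
  intro v hv' hv1
  obtain ⟨hvE, hvt⟩ := mem_inf.1 hv'
  exact ⟨E, hEH, isPGroup_of_elem hE, htE,
    fun r hr hrv => hv v hvE hv1 (mem_centralizer_singleton_iff.1 hvt) r hr hrv,
    fun r hr _ hre => hc r hr hre⟩

/-- an involution has at least `√|E|` fixed points on an elementary abelian 2-group `E` -/
theorem card_le_sq [Finite G] {t : G} (htt : t * t = 1) {E : Subgroup G} (hE : IsElementaryAbelian 2 E)
    (htE : ∀ e ∈ E, t * e * t⁻¹ ∈ E) : Nat.card E ≤ Nat.card ↥(E ⊓ centralizer {t}) ^ 2 := by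
  have ht' : t⁻¹ = t := inv_eq_of_mul_eq_one_right htt
  have hcomm : ∀ a ∈ E, ∀ b ∈ E, a * b = b * a := by
    intro a ha b hb
    have := hE.1
    exact congrArg (fun x : E => (x : G)) (mul_comm' (⟨a, ha⟩ : E) ⟨b, hb⟩)
  let f : ↥E →* ↥E :=
    { toFun := fun e => ⟨e * (t * e * t⁻¹), E.mul_mem e.2 (htE e e.2)⟩
      map_one' := Subtype.ext (by
        show (1 : G) * (t * 1 * t⁻¹) = 1
        group)
      map_mul' := fun a b => Subtype.ext (by
        show (a : G) * b * (t * (a * b) * t⁻¹) = a * (t * a * t⁻¹) * (b * (t * b * t⁻¹))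
        calc (a : G) * b * (t * (a * b) * t⁻¹) = a * (b * (t * a * t⁻¹)) * (t * b * t⁻¹) := by group
          _ = a * ((t * a * t⁻¹) * b) * (t * b * t⁻¹) := by rw [hcomm b b.2 _ (htE a a.2)]
          _ = a * (t * a * t⁻¹) * (b * (t * b * t⁻¹)) := by group) }
  have hf : ∀ e : ↥E, ((f e : ↥E) : G) = e * (t * e * t⁻¹) := fun e => rfl
  have h1 : Nat.card f.ker ≤ Nat.card ↥(E ⊓ centralizer {t}) := by
    refine Nat.card_le_card_of_injective (fun x : f.ker => (⟨((x : ↥E) : G), mem_inf.2 ⟨(x : ↥E).2, ?_⟩⟩ :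
      ↥(E ⊓ centralizer {t}))) ?_
    · rw [mem_centralizer_singleton_iff]
      have h2 : ((f x : ↥E) : G) = 1 := congrArg Subtype.val (MonoidHom.mem_ker.1 x.2)
      rw [hf] at h2
      have h3 : ((x : ↥E) : G) * (x : ↥E) = 1 := by
        rw [← pow_two]
        exact hE.2 _ (x : ↥E).2
      have h4 : t * ((x : ↥E) : G) * t⁻¹ = (x : ↥E) := mul_left_cancel (h2.trans h3.symm)
      rw [mul_inv_eq_iff_eq_mul] at h4
      exact h4.symm
    · intro a b hab
      exact Subtype.ext (Subtype.ext (congrArg (fun z : ↥(E ⊓ centralizer {t}) => (z : G)) hab))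
  have h2 : Nat.card f.range ≤ Nat.card ↥(E ⊓ centralizer {t}) := by
    refine Nat.card_le_card_of_injective (fun x : f.range => (⟨((x : ↥E) : G), mem_inf.2 ⟨(x : ↥E).2, ?_⟩⟩ :
      ↥(E ⊓ centralizer {t}))) ?_
    · rw [mem_centralizer_singleton_iff]
      obtain ⟨y, hy⟩ := x.2
      have h3 : ((x : ↥E) : G) = y * (t * y * t⁻¹) := by rw [← hf, hy]
      rw [h3]
      have h4 : (y : G) * (t * y * t⁻¹) = (t * y * t⁻¹) * y := hcomm y y.2 _ (htE y y.2)
      rw [h4]
      calc t * y * t⁻¹ * y * t = t * (y * (t⁻¹ * y * t)) := by group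
        _ = t * (y * (t * y * t⁻¹)) := by rw [ht']
        _ = t * ((t * y * t⁻¹) * y) := by rw [h4]
    · intro a b hab
      exact Subtype.ext (Subtype.ext (congrArg (fun z : ↥(E ⊓ centralizer {t}) => (z : G)) hab))
  have h3 := f.ker.card_mul_index
  rw [index_ker] at h3
  rw [← h3, pow_two]
  exact Nat.mul_le_mul h1 h2

theorem four_le [Finite G] {t : G} (htt : t * t = 1) {E : Subgroup G} (hE : IsElementaryAbelian 2 E)
    (htE : ∀ e ∈ E, t * e * t⁻¹ ∈ E) (h8 : 8 ≤ Nat.card E) : 4 ≤ Nat.card ↥(E ⊓ centralizer {t}) := by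
  have h1 := card_le_sq htt hE htE
  have h2 : IsPGroup 2 ↥(E ⊓ centralizer {t} : Subgroup G) := (isPGroup_of_elem hE).to_le inf_le_left
  obtain ⟨n, hn⟩ := (IsPGroup.iff_card (p := 2)).1 h2
  rw [hn] at h1 ⊢
  rcases n with - | - | n
  · norm_num at h1
    omega
  · norm_num at h1
    omega
  · rw [pow_add]
    have : 1 ≤ 2 ^ n := Nat.one_le_two_pow
    omega

/-! ### `R = O(C_G(t))` -/

theorem core_odd [Finite G] (t : G) : Odd (Nat.card ↥(centralizerPPrimeCore 2 t)) := by
  unfold centralizerPPrimeCore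
  rw [Subgroup.card_map_of_injective (Subgroup.subtype_injective _)]
  exact Nat.coprime_two_right.1 (Lib.Cores.pPrimeCore_coprime 2)

theorem core_comm {t r : G} (hr : r ∈ centralizerPPrimeCore 2 t) : r * t = t * r := by
  have h : r ∈ centralizer ({t} : Set G) := Subgroup.map_subtype_le _ hr
  exact mem_centralizer_singleton_iff.1 h

theorem core_conj_mem [Finite G] {t c r : G} (hc : c * t = t * c) (hr : r ∈ centralizerPPrimeCore 2 t) :
    c * r * c⁻¹ ∈ centralizerPPrimeCore 2 t := by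
  obtain ⟨x, hx, rfl⟩ := hr
  have hc' : c ∈ centralizer ({t} : Set G) := mem_centralizer_singleton_iff.2 hc
  exact ⟨⟨c, hc'⟩ * x * ⟨c, hc'⟩⁻¹, (inferInstance : (pPrimeCore 2 ↥(centralizer ({t} : Set G))).Normal).conj_mem
    x hx ⟨c, hc'⟩, rfl⟩

end Cfsg.Agent.UGT.End.CoreE
end

-- part: UGT/End/Octad
section
set_option linter.all false
open scoped Cfsg.Agent.FastGrp

/-!
# UGT, END nodes: octads of the Golay code (helper818)

* `mem_fixOct_of_comm`: an element of `M24` centralising the pointwise stabiliser `E` of an octad lies in `E`;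
* `stab_of_comm`: the centraliser in `M24` of an element of `E - 1` stabilises the octad;
* `octad_criterion`: `t ∈ M24` an involution stabilising the octad `O`, `E = fixOct O`; `R ≤ M24` of odd order,
  centralising `t` and normalised by `C_E(t)`. Then `R = 1`;
* `exists_octad_fixed`: a parity argument.
-/

set_option autoImplicit false

namespace Cfsg.Agent.UGT.End.Octad

open Cfsg Subgroup Cfsg.Agent.SporadicA.GolayBase Cfsg.Agent.SporadicA.OctadFix
open Cfsg.Agent.SporadicA.GolayPerm Cfsg.Agent.SporadicA.OctadStab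
open scoped Pointwise

theorem mul_comm_fixOct {O : Finset GolayPt} (hO : O ∈ octads) {a b : Equiv.Perm GolayPt}
    (ha : a ∈ fixOct O) (hb : b ∈ fixOct O) : a * b = b * a := by
  have h1 := fixOct_sq hO ha
  have h2 := fixOct_sq hO hb
  have h3 := fixOct_sq hO (mul_mem ha hb)
  have e1 : a⁻¹ = a := inv_eq_of_mul_eq_one_left h1
  have e2 : b⁻¹ = b := inv_eq_of_mul_eq_one_left h2
  have e3 : (a * b)⁻¹ = a * b := inv_eq_of_mul_eq_one_left h3
  rw [mul_inv_rev, e1, e2] at e3
  exact e3.symm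

theorem elem_fixOct {O : Finset GolayPt} (hO : O ∈ octads) : IsElementaryAbelian 2 (fixOct O) := by
  refine ⟨⟨⟨fun a b => Subtype.ext (mul_comm_fixOct hO a.2 b.2)⟩⟩, fun a ha => ?_⟩
  rw [pow_two]
  exact fixOct_sq hO ha

theorem eq_one_of_fix' {O : Finset GolayPt} (hO : O ∈ octads) {g : Equiv.Perm GolayPt}
    (hg : g ∈ fixOct O) {p : GolayPt} (hp : p ∉ O) (hgp : g p = p) : g = 1 := by
  obtain ⟨k, -, hk⟩ := existsUnique_fixOct hO hp hp
  rw [hk g ⟨hg, hgp⟩, hk 1 ⟨(fixOct O).one_mem, rfl⟩]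

theorem exists_not_mem {O : Finset GolayPt} (hO : O ∈ octads) : ∃ p : GolayPt, p ∉ O := by
  by_contra h
  push Not at h
  have h1 : O = Finset.univ := Finset.eq_univ_iff_forall.2 h
  have h2 : O.card = 8 := hO.2
  rw [h1, Finset.card_univ] at h2
  have h3 : Fintype.card GolayPt = 24 := by decide +kernel
  omega

/-! ### the centraliser of `fixOct O` -/

theorem disj0 : ∀ i < 24, Nat.testBit 6889680 i = true → Nat.testBit 8536111 i = false := by
  decide +kernel

theorem oct1_mem : fin 6889680 ∈ octads := (fin_mem_octads_iff (by norm_num)).2 (by decide +kernel)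

theorem pt8 : pt 8 ∉ fin 6889680 ∧ pt 8 ∉ oct0 := by
  constructor
  · rw [mem_fin, idx_pt (by norm_num)]
    decide +kernel
  · rw [mem_oct0, idx_pt (by norm_num)]
    decide +kernel

/-- an octad disjoint from `O`, and a further point outside both -/
theorem exists_disjoint {O : Finset GolayPt} (hO : O ∈ octads) :
    ∃ O' ∈ octads, (∀ p ∈ O', p ∉ O) ∧ ∃ q, q ∉ O' ∧ q ∉ O := by
  obtain ⟨k, hk, h⟩ := exists_smul_eq_oct0 hO
  have hkO : ∀ x, x ∈ O ↔ k x ∈ oct0 := fun x => by rw [← h, mem_smul_iff]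
  have hk1 : ∀ x, x ∈ k⁻¹ • fin 6889680 ↔ k x ∈ fin 6889680 := fun x => by
    have h1 := mem_smul_iff k⁻¹ (fin 6889680) (k x)
    rwa [show k⁻¹ (k x) = x from Equiv.symm_apply_apply k x] at h1
  refine ⟨k⁻¹ • fin 6889680, (smul_mem_octads (M24.inv_mem hk)).2 oct1_mem, ?_, k⁻¹ (pt 8), ?_, ?_⟩
  · intro p hp hpO
    rw [hk1, mem_fin] at hp
    rw [hkO, mem_oct0] at hpO
    have := disj0 _ (idx_lt _) hp
    rw [hpO] at this
    exact absurd this (by decide)
  · rw [hk1, show k (k⁻¹ (pt 8)) = pt 8 from Equiv.apply_symm_apply k _]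
    exact pt8.1
  · rw [hkO, show k (k⁻¹ (pt 8)) = pt 8 from Equiv.apply_symm_apply k _]
    exact pt8.2

theorem mem_of_smul_eq {O : Finset GolayPt} {g : Equiv.Perm GolayPt} (h : g • O = O) (x : GolayPt) :
    g x ∈ O ↔ x ∈ O := by
  have := mem_smul_iff g O x
  rwa [h] at this

/-- an element of `M24` stabilising `O` and centralising `fixOct O` lies in `fixOct O` -/
theorem mem_fixOct_of_comm {O : Finset GolayPt} (hO : O ∈ octads) {g : Equiv.Perm GolayPt} (hg : g ∈ M24)
    (h0 : g • O = O) (hc : ∀ b ∈ fixOct O, g * b = b * g) : g ∈ fixOct O := by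
  obtain ⟨p, hp⟩ := exists_not_mem hO
  have hout : ∀ q, q ∉ O → g q ∉ O := fun q hq h => hq ((mem_of_smul_eq h0 q).1 h)
  obtain ⟨b, ⟨hb, hbp⟩, -⟩ := existsUnique_fixOct hO hp (hout _ hp)
  have hall : ∀ q, q ∉ O → g q = b q := by
    intro q hq
    obtain ⟨a, ⟨ha, haq⟩, -⟩ := existsUnique_fixOct hO hp hq
    have h1 := congrArg (fun f : Equiv.Perm GolayPt => f p) (hc a ha)
    have h2 := congrArg (fun f : Equiv.Perm GolayPt => f p) (mul_comm_fixOct hO ha hb)
    simp only [Equiv.Perm.mul_apply] at h1 h2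
    rw [haq] at h1 h2
    rw [h1, ← hbp, h2]
  obtain ⟨O', hO', hd, q, hq', hq⟩ := exists_disjoint hO
  have hk : b⁻¹ * g ∈ fixOct O' := by
    refine mem_fixOct.2 ⟨M24.mul_mem (M24.inv_mem (mem_fixOct.1 hb).1) hg, fun q hq => ?_⟩
    rw [Equiv.Perm.mul_apply, Equiv.Perm.inv_eq_iff_eq]
    exact hall q (hd q hq)
  have h1 : b⁻¹ * g = 1 := by
    refine eq_one_of_fix' hO' hk hq' ?_
    rw [Equiv.Perm.mul_apply, Equiv.Perm.inv_eq_iff_eq]
    exact hall _ hq
  rw [inv_mul_eq_one] at h1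
  rw [← h1]
  exact hb

/-- the centraliser in `M24` of `1 ≠ v ∈ fixOct O` stabilises `O` -/
theorem stab_of_comm {O : Finset GolayPt} (hO : O ∈ octads) {v g : Equiv.Perm GolayPt}
    (hv : v ∈ fixOct O) (hv1 : v ≠ 1) (hc : g * v = v * g) : g • O = O := by
  have hfix : ∀ x, v x = x ↔ x ∈ O := by
    intro x
    refine ⟨fun h => ?_, (mem_fixOct.1 hv).2 x⟩
    by_contra hx
    exact hv1 (eq_one_of_fix' hO hv hx h)
  have h1 : g • O ⊆ O := by
    intro y hy
    obtain ⟨x, rfl⟩ := g.surjective y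
    rw [mem_smul_iff] at hy
    rw [← hfix]
    have h2 := congrArg (fun f : Equiv.Perm GolayPt => f x) hc
    simp only [Equiv.Perm.mul_apply] at h2
    rw [← h2, (hfix x).2 hy]
  exact Finset.eq_of_subset_of_card_le h1 (le_of_eq (Finset.card_smul_finset g O).symm)

theorem conj_mem {O : Finset GolayPt} {g e : Equiv.Perm GolayPt} (hg : g ∈ M24) (h0 : g • O = O)
    (he : e ∈ fixOct O) : g * e * g⁻¹ ∈ fixOct O := by
  have := (conj_mem_fixOct (o := O) (g := e) hg).2 he
  rwa [h0] at this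

/-- **Criterion.** -/
theorem octad_criterion {O : Finset GolayPt} (hO : O ∈ octads) {t : Equiv.Perm GolayPt} (ht : t ∈ M24)
    (htt : t * t = 1) (htO : t • O = O) {R : Subgroup (Equiv.Perm GolayPt)} (hRM : R ≤ M24)
    (hR : Odd (Nat.card R)) (hRt : ∀ r ∈ R, r * t = t * r)
    (hnR : ∀ c ∈ fixOct O, c * t = t * c → ∀ r ∈ R, c * r * c⁻¹ ∈ R) : R = ⊥ := by
  have hE := elem_fixOct hO
  have htE : ∀ e ∈ fixOct O, t * e * t⁻¹ ∈ fixOct O := fun e he => conj_mem ht htO he
  refine CoreE.eq_bot_of_elem htt (H := fixOct O) hE le_rfl htE ?_ hR hRt hnR ?_ ?_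
  · apply CoreE.four_le htt hE htE
    rw [card_fixOct hO]
    norm_num
  · intro v hv hv1 _ r hr hrv e he
    exact conj_mem (hRM hr) (stab_of_comm hO hv hv1 hrv) he
  · intro r hr hre
    -- `r` stabilises `O`, hence `r ∈ E ∩ R = 1`
    have hne : ∃ v ∈ fixOct O, v ≠ 1 := by
      by_contra h
      push Not at h
      have h1 : fixOct O = ⊥ := by
        rw [eq_bot_iff]
        intro v hv
        rw [mem_bot]
        exact h v hv
      have h2 := card_fixOct hO
      rw [h1, card_bot] at h2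
      omega
    obtain ⟨v, hv, hv1⟩ := hne
    have h1 := mem_fixOct_of_comm hO (hRM hr) (stab_of_comm hO hv hv1 (hre v hv)) hre
    exact CoreE.eq_one_of_mem_both (CoreE.isPGroup_of_elem hE) hR h1 hr

/-- An involution of `M24` preserving a set of octads of odd cardinality fixes one of them. -/
theorem exists_octad_fixed {P : Finset GolayPt → Prop} {t : Equiv.Perm GolayPt} (ht : t ∈ M24)
    (htt : t * t = 1) (hP : ∀ O ∈ octads, P O → P (t • O))
    (hcard : Odd ({O : Finset GolayPt | O ∈ octads ∧ P O}.ncard)) : ∃ O ∈ octads, P O ∧ t • O = O := by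
  classical
  let X := {O : Finset GolayPt // O ∈ octads ∧ P O}
  have hinv : ∀ O : Finset GolayPt, t • t • O = O := fun O => by
    rw [← mul_smul, htt, one_smul]
  let σ : Equiv.Perm X :=
    { toFun := fun O => ⟨t • O.1, (smul_mem_octads ht).2 O.2.1, hP O.1 O.2.1 O.2.2⟩
      invFun := fun O => ⟨t • O.1, (smul_mem_octads ht).2 O.2.1, hP O.1 O.2.1 O.2.2⟩
      left_inv := fun O => Subtype.ext (hinv O.1)
      right_inv := fun O => Subtype.ext (hinv O.1) }
  have : Fact (Nat.Prime 2) := ⟨Nat.prime_two⟩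
  have hfin : Finite X := Subtype.finite
  have hX : Nat.card X = {O : Finset GolayPt | O ∈ octads ∧ P O}.ncard := rfl
  let _ : Fintype X := Fintype.ofFinite X
  have h2 : ¬ 2 ∣ Fintype.card X := by
    rw [← Nat.card_eq_fintype_card, hX, ← even_iff_two_dvd, Nat.not_even_iff_odd]
    exact hcard
  have hσ : σ ^ 2 ^ 1 = 1 := by
    rw [pow_one, pow_two]
    ext1 O
    exact Subtype.ext (hinv O.1)
  obtain ⟨O, hO⟩ := Equiv.Perm.exists_fixed_point_of_prime h2 hσ
  exact ⟨O.1, O.2.1, O.2.2, congrArg Subtype.val hO⟩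

end Cfsg.Agent.UGT.End.Octad
end

-- part: UGT/End/M22
section
set_option linter.all false
open scoped Cfsg.Agent.FastGrp

-- part: UGT/End/Embed
section
/-!
# UGT, END nodes: embedding of `G` in `Aut (F*(G))` (helper818)

`exists_embed`: `N` a normal subgroup of `D` with `C_D(N) = 1` such that every automorphism of `N` is induced
by an element of `D`; `F` a normal subgroup of `G` with `C_G(F) ≤ F`, `e : F ≃* N`. Then `e` extends to an
injective homomorphism `G →* D`.
`exists_embed_fstar`: `F = F*(G)`.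
`core_eq_bot`: END from a statement on the involutions of `D`.
-/

set_option autoImplicit false

open Cfsg Subgroup

namespace Cfsg.Agent.UGT.End.Embed

variable {G D : Type*} [Group G] [Group D]

/-- `d` induces on `N` what `g` induces on `F` -/
def Ind {F : Subgroup G} {N : Subgroup D} (e : ↥F ≃* ↥N) (g : G) (d : D) : Prop :=
  ∀ x y : ↥F, g * (x : G) * g⁻¹ = y → d * (e x : D) * d⁻¹ = e y

section

variable {F : Subgroup G} {N : Subgroup D} (e : ↥F ≃* ↥N)

theorem Ind.mul [hF : F.Normal] {g g' : G} {d d' : D} (h : Ind e g d) (h' : Ind e g' d') :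
    Ind e (g * g') (d * d') := by
  intro x y hxy
  have h1 := h' x ⟨g' * x * g'⁻¹, hF.conj_mem x x.2 g'⟩ rfl
  have h2 := h ⟨g' * x * g'⁻¹, hF.conj_mem x x.2 g'⟩ y (by
    rw [← hxy]
    show g * (g' * x * g'⁻¹) * g⁻¹ = _
    group)
  rw [← h2, ← h1]
  group

theorem Ind.one : Ind e 1 1 := by
  intro x y hxy
  have : x = y := Subtype.ext (by rw [← hxy]; group)
  rw [this]; group

theorem Ind.coe (g : ↥F) : Ind e (g : G) (e g : D) := by
  intro x y hxy
  have h1 : g * x * g⁻¹ = y := Subtype.ext hxy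
  rw [← h1, map_mul, map_mul, map_inv]
  rfl

theorem Ind.unique [hF : F.Normal] (hC : ∀ d : D, (∀ n ∈ N, d * n = n * d) → d = 1) {g : G} {d d' : D}
    (h : Ind e g d) (h' : Ind e g d') : d = d' := by
  have h1 : d'⁻¹ * d = 1 := by
    apply hC
    intro n hn
    have h2 : ∀ x : ↥F, d * (e x : D) * d⁻¹ = d' * (e x : D) * d'⁻¹ := fun x => by
      rw [h x ⟨g * x * g⁻¹, hF.conj_mem x x.2 g⟩ rfl, h' x ⟨g * x * g⁻¹, hF.conj_mem x x.2 g⟩ rfl]
    have h3 := h2 (e.symm ⟨n, hn⟩)
    rw [e.apply_symm_apply] at h3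
    simp only at h3
    calc d'⁻¹ * d * n = d'⁻¹ * (d * n * d⁻¹) * d := by group
      _ = d'⁻¹ * (d' * n * d'⁻¹) * d := by rw [h3]
      _ = n * (d'⁻¹ * d) := by group
  rw [inv_mul_eq_one] at h1
  exact h1.symm

/-- conjugation by `g`, transported to `N` -/
def conjN [F.Normal] (g : G) : ↥N ≃* ↥N := (e.symm.trans (MulAut.conjNormal g)).trans e

theorem exists_ind [hF : F.Normal] (hA : ∀ α : ↥N ≃* ↥N, ∃ d : D, ∀ n : ↥N, (α n : D) = d * n * d⁻¹) (g : G) :
    ∃ d : D, Ind e g d := by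
  obtain ⟨d, hd⟩ := hA (conjN e g)
  refine ⟨d, fun x y hxy => ?_⟩
  rw [← hd (e x)]
  congr 1
  show e (MulAut.conjNormal g (e.symm (e x))) = e y
  rw [e.symm_apply_apply]
  congr 1
  exact Subtype.ext hxy

/-- **Embedding.** -/
theorem exists_embed [hF : F.Normal] (hC : ∀ d : D, (∀ n ∈ N, d * n = n * d) → d = 1)
    (hA : ∀ α : ↥N ≃* ↥N, ∃ d : D, ∀ n : ↥N, (α n : D) = d * n * d⁻¹)
    (hCF : centralizer (F : Set G) ≤ F) :
    ∃ φ : G →* D, Function.Injective φ ∧ (∀ x : ↥F, φ x = e x) ∧ ∀ g : G, Ind e g (φ g) := by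
  choose f hf using exists_ind e hA
  let φ : G →* D :=
    { toFun := f
      map_one' := Ind.unique e hC (hf 1) (Ind.one e)
      map_mul' := fun g g' => Ind.unique e hC (hf (g * g')) (Ind.mul e (hf g) (hf g')) }
  refine ⟨φ, ?_, fun x => Ind.unique e hC (hf x) (Ind.coe e x), hf⟩
  rw [injective_iff_map_eq_one]
  intro g hg
  have hg' : Ind e g 1 := by
    have := hf g
    have h2 : f g = 1 := hg
    rwa [h2] at this
  -- `g` centralises `F`
  have h1 : ∀ x : ↥F, g * (x : G) * g⁻¹ = x := by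
    intro x
    have h2 := hg' x ⟨g * x * g⁻¹, hF.conj_mem x x.2 g⟩ rfl
    have h3 : e x = e ⟨g * x * g⁻¹, hF.conj_mem x x.2 g⟩ := Subtype.ext (by rw [← h2]; group)
    have h4 := e.injective h3
    exact (congrArg Subtype.val h4).symm
  have h2 : g ∈ F := by
    apply hCF
    rw [mem_centralizer_iff]
    intro x hx
    have h3 := h1 ⟨x, hx⟩
    rw [mul_inv_eq_iff_eq_mul] at h3
    exact h3.symm
  have h3 : (e ⟨g, h2⟩ : D) = 1 := by
    have h4 : Ind e g (e ⟨g, h2⟩ : D) := Ind.coe e ⟨g, h2⟩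
    exact Ind.unique e hC h4 hg'
  have h4 : e ⟨g, h2⟩ = 1 := Subtype.ext h3
  have h5 := (map_eq_one_iff e e.injective).1 h4
  exact congrArg Subtype.val h5

end

theorem range_of_coe {F : Subgroup G} {N : Subgroup D} (e : ↥F ≃* ↥N) {φ : G →* D}
    (h : ∀ x : ↥F, φ x = e x) : F.map φ = N := by
  ext d
  constructor
  · rintro ⟨x, hx, rfl⟩
    rw [h ⟨x, hx⟩]
    exact (e ⟨x, hx⟩).2
  · intro hd
    refine ⟨(e.symm ⟨d, hd⟩ : ↥F), (e.symm ⟨d, hd⟩).2, ?_⟩
    rw [h, e.apply_symm_apply]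

/-- transport of `O(C_G(t))` along an injective homomorphism -/
theorem core_eq_bot_of_map [Finite G] {φ : G →* D} (hφ : Function.Injective φ) {t : G}
    (h : ∀ R : Subgroup D, R ≤ φ.range → Odd (Nat.card R) → (∀ r ∈ R, r * φ t = φ t * r) →
      (∀ c ∈ φ.range, c * φ t = φ t * c → ∀ r ∈ R, c * r * c⁻¹ ∈ R) → R = ⊥) :
    centralizerPPrimeCore 2 t = ⊥ := by
  have h1 : (centralizerPPrimeCore 2 t).map φ = ⊥ := by
    apply h
    · rintro _ ⟨x, -, rfl⟩
      exact ⟨x, rfl⟩
    · rw [card_map_of_injective hφ]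
      exact CoreE.core_odd t
    · rintro _ ⟨x, hx, rfl⟩
      rw [← map_mul, ← map_mul, CoreE.core_comm hx]
    · rintro _ ⟨c, rfl⟩ hc _ ⟨x, hx, rfl⟩
      rw [← map_mul, ← map_mul] at hc
      exact ⟨c * x * c⁻¹, CoreE.core_conj_mem (hφ hc) hx, by rw [map_mul, map_mul, map_inv]⟩
  rw [eq_bot_iff]
  intro x hx
  have h2 : φ x ∈ (centralizerPPrimeCore 2 t).map φ := ⟨x, hx, rfl⟩
  rw [h1, mem_bot] at h2
  rw [mem_bot]
  exact (map_eq_one_iff φ hφ).1 h2

/-- **END from the sheet of `N`**, `F` normal in `G`, `C_G(F) ≤ F`. -/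
theorem core_eq_bot_normal [Finite G] {F : Subgroup G} [F.Normal] (hCF : centralizer (F : Set G) ≤ F)
    {N : Subgroup D} (hC : ∀ d : D, (∀ n ∈ N, d * n = n * d) → d = 1)
    (hA : ∀ α : ↥N ≃* ↥N, ∃ d : D, ∀ n : ↥N, (α n : D) = d * n * d⁻¹)
    (h : ∀ t : D, t * t = 1 → t ≠ 1 → ∀ R : Subgroup D, Odd (Nat.card R) → (∀ r ∈ R, r * t = t * r) →
      (∀ c ∈ N, c * t = t * c → ∀ r ∈ R, c * r * c⁻¹ ∈ R) → R = ⊥)
    (e : ↥F ≃* ↥N) (t : G) (ht : orderOf t = 2) : centralizerPPrimeCore 2 t = ⊥ := by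
  obtain ⟨φ, h1, h2, -⟩ := exists_embed e hC hA hCF
  have h3 := range_of_coe e h2
  have htt : t * t = 1 := by rw [← pow_two, ← ht, pow_orderOf_eq_one]
  have ht1 : t ≠ 1 := by
    rintro rfl
    rw [orderOf_one] at ht
    omega
  refine core_eq_bot_of_map h1 (fun R _ hR hRt hn => h (φ t) ?_ ?_ R hR hRt fun c hc => hn c ?_)
  · rw [← map_mul, htt, map_one]
  · rwa [Ne, map_eq_one_iff φ h1]
  · rw [← h3] at hc
    obtain ⟨x, -, rfl⟩ := hc
    exact ⟨x, rfl⟩

/-- the same inside an ambient group `P`, `K ≤ D ≤ P` -/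
theorem core_eq_bot_sub_normal {P : Type*} [Group P] [Finite G] {F : Subgroup G} [F.Normal]
    (hCF : centralizer (F : Set G) ≤ F) {K D : Subgroup P} (hKD : K ≤ D)
    (hC : ∀ d ∈ D, (∀ n ∈ K, d * n = n * d) → d = 1)
    (hA : ∀ α : ↥K ≃* ↥K, ∃ d ∈ D, ∀ n : ↥K, (α n : P) = d * n * d⁻¹)
    (h : ∀ t ∈ D, t * t = 1 → t ≠ 1 → ∀ R : Subgroup P, R ≤ D → Odd (Nat.card R) →
      (∀ r ∈ R, r * t = t * r) → (∀ c ∈ K, c * t = t * c → ∀ r ∈ R, c * r * c⁻¹ ∈ R) → R = ⊥)
    (e : ↥F ≃* ↥K) (t : G) (ht : orderOf t = 2) :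
    centralizerPPrimeCore 2 t = ⊥ := by
  let j : ↥(K.subgroupOf D) ≃* ↥K := subgroupOfEquivOfLe hKD
  have hj : ∀ x : ↥(K.subgroupOf D), ((j x : ↥K) : P) = ((x : ↥D) : P) := fun x => rfl
  refine core_eq_bot_normal hCF (N := K.subgroupOf D) ?_ ?_ ?_ (e.trans j.symm) t ht
  · intro d hd
    refine Subtype.ext (hC d d.2 fun n hn => ?_)
    exact congrArg Subtype.val (hd ⟨n, hKD hn⟩ hn)
  · intro α
    obtain ⟨d, hd, hdα⟩ := hA ((j.symm.trans α).trans j)
    refine ⟨⟨d, hd⟩, fun n => Subtype.ext ?_⟩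
    have h1 := hdα (j n)
    have h2 : (((j.symm.trans α).trans j) (j n) : P) = ((α n : ↥D) : P) := by
      show ((j (α (j.symm (j n))) : ↥K) : P) = _
      rw [j.symm_apply_apply, hj]
    rw [h2, hj] at h1
    exact h1
  · intro s hs hs1 R hR hRs hnR
    have h1 : R.map D.subtype = ⊥ := by
      refine h s s.2 (congrArg Subtype.val hs) (fun h0 => hs1 (Subtype.ext h0)) _ (map_subtype_le R) ?_ ?_ ?_
      · rw [card_map_of_injective D.subtype_injective]
        exact hR
      · rintro _ ⟨r, hr, rfl⟩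
        exact congrArg Subtype.val (hRs r hr)
      · rintro c hc hcs _ ⟨r, hr, rfl⟩
        exact ⟨(⟨c, hKD hc⟩ * r * ⟨c, hKD hc⟩⁻¹ :), hnR ⟨c, hKD hc⟩ hc (Subtype.ext hcs) r hr, rfl⟩
    rwa [map_eq_bot_iff_of_injective _ D.subtype_injective] at h1

end Cfsg.Agent.UGT.End.Embed
end

-- part: UGT/End/M22
section
/-!
# UGT, END(M22) (helper818)

* `sheet`: `t` an involution of `M22 : 2`; a subgroup of odd order of `C(t)` normalised by `C_{M22}(t)` is trivial;
* `end_M22`: `F*(G) ≅ M22` implies `O(C_G(t)) = 1` for every involution `t` of `G`;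
* `end_of_normal`: the same for a normal subgroup `N ≅ M22` with `C_G(N) = 1`;
* `autCoreFree`, `locallyBalanced`.
-/

set_option autoImplicit false

namespace Cfsg.Agent.UGT.End.M22

open Cfsg Subgroup
open Cfsg.Agent.J4Type.Aut22 (D22 mem_D22_iff M22_le_D22 exists_conj eq_one_of_centralizes)
open Cfsg.Agent.SporadicA.MathieuRecog (mem_M22_iff simple_M22)
open Cfsg.Agent.SporadicA.OctadFix
open scoped Pointwise

universe u

theorem sheet {t : Equiv.Perm GolayPt} (ht : t ∈ D22) (htt : t * t = 1)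
    {R : Subgroup (Equiv.Perm GolayPt)} (hRD : R ≤ D22) (hR : Odd (Nat.card R))
    (hRt : ∀ r ∈ R, r * t = t * r) (hnR : ∀ c ∈ Spor.M22, c * t = t * c → ∀ r ∈ R, c * r * c⁻¹ ∈ R) :
    R = ⊥ := by
  obtain ⟨htM, htp⟩ := (mem_D22_iff t).1 ht
  obtain ⟨O, hO, ⟨h0, h1⟩, htO⟩ := Octad.exists_octad_fixed (P := fun O => none ∈ O ∧ some 0 ∈ O) htM htt
    (by
      rintro O - ⟨h0, h1⟩
      rcases htp with h | h
      · constructor
        · rw [← h.1]; exact Finset.smul_mem_smul_finset h0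
        · rw [← h.2]; exact Finset.smul_mem_smul_finset h1
      · constructor
        · rw [← h.2]; exact Finset.smul_mem_smul_finset h1
        · rw [← h.1]; exact Finset.smul_mem_smul_finset h0)
    (by rw [Cfsg.Agent.SporadicStructure.MonoCounts.ncard_octads_in]; decide)
  refine Octad.octad_criterion hO htM htt htO (fun r hr => ((mem_D22_iff r).1 (hRD hr)).1) hR hRt
    fun c hc => hnR c ?_
  rw [mem_fixOct] at hc
  exact (mem_M22_iff c).2 ⟨hc.1, hc.2 _ h0, hc.2 _ h1⟩

theorem eq_one_of_comm {d : Equiv.Perm GolayPt} (hd : d ∈ D22) (h : ∀ n ∈ Spor.M22, d * n = n * d) :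
    d = 1 := by
  refine eq_one_of_centralizes hd fun m => ?_
  rw [h m m.2, mul_assoc, mul_inv_cancel, mul_one]

theorem end_of_normal (G : Type u) [Group G] [Finite G] (N : Subgroup G) (hN : N.Normal)
    (hG : Spor.IsoM22 ↥N) (hc : centralizer (N : Set G) = ⊥) (t : G) (ht : orderOf t = 2) :
    centralizerPPrimeCore 2 t = ⊥ := by
  obtain ⟨e⟩ := hG
  refine Embed.core_eq_bot_sub_normal (by rw [hc]; exact bot_le) M22_le_D22 (fun d => eq_one_of_comm)
    exists_conj ?_ e t ht
  intro s hs hss _ R hRD hR hRs hnR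
  exact sheet hs hss hRD hR hRs hnR

/-! ### `AutCoreFree M22` -/

theorem center_bot : center ↥Spor.M22 = ⊥ := by
  rw [eq_bot_iff]
  intro z hz
  rw [mem_bot]
  refine Subtype.ext (eq_one_of_comm (M22_le_D22 z.2) fun n hn => ?_)
  exact congrArg Subtype.val (mem_center_iff.1 hz ⟨n, hn⟩).symm

theorem sq_mem {d : Equiv.Perm GolayPt} (hd : d ∈ D22) : d * d ∈ Spor.M22 := by
  obtain ⟨hM, h⟩ := (mem_D22_iff d).1 hd
  refine (mem_M22_iff _).2 ⟨M24.mul_mem hM hM, ?_⟩
  rcases h with h | h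
  · exact ⟨by rw [Equiv.Perm.mul_apply, h.1, h.1], by rw [Equiv.Perm.mul_apply, h.2, h.2]⟩
  · exact ⟨by rw [Equiv.Perm.mul_apply, h.1, h.2], by rw [Equiv.Perm.mul_apply, h.2, h.1]⟩

theorem autCoreFree : EndBase.AutCoreFree ↥Spor.M22 := by
  refine EndBase.autCoreFree_of_pow 1 ?_ ?_
  · intro φ
    obtain ⟨d, hd, hφ⟩ := exists_conj φ
    refine ⟨⟨d * d, sq_mem hd⟩, ?_⟩
    ext1 x
    apply Subtype.ext
    show d * d * (x : Equiv.Perm GolayPt) * (d * d)⁻¹ = (((φ ^ (2 ^ 1)) x : ↥Spor.M22) : Equiv.Perm GolayPt)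
    rw [pow_one, pow_two, MulAut.mul_apply, hφ, hφ]
    group
  · intro σ hσ Y hY h1 h2
    obtain ⟨d, hd, hφ⟩ := exists_conj σ
    have hσσ : σ * σ = 1 := by rw [← pow_two, ← hσ, pow_orderOf_eq_one]
    have key : ∀ x : ↥Spor.M22, σ x = x ↔ (x : Equiv.Perm GolayPt) * d = d * x := by
      intro x
      rw [← Subtype.coe_inj, hφ, mul_inv_eq_iff_eq_mul]
      exact eq_comm
    have hdd : d * d = 1 := by
      refine eq_one_of_comm (D22.mul_mem hd hd) fun n hn => ?_
      have h3 : ((σ * σ) ⟨n, hn⟩ : ↥Spor.M22) = ⟨n, hn⟩ := by rw [hσσ]; rfl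
      have h4 : d * (d * n * d⁻¹) * d⁻¹ = n := by
        rw [MulAut.mul_apply, ← Subtype.coe_inj, hφ, hφ] at h3
        exact h3
      have h5 : d * d * n * (d * d)⁻¹ = n := by
        have e1 : d * d * n * (d * d)⁻¹ = d * (d * n * d⁻¹) * d⁻¹ := by group
        rw [e1, h4]
      rwa [mul_inv_eq_iff_eq_mul] at h5
    have h3 : Y.map Spor.M22.subtype = ⊥ := by
      refine sheet hd hdd ((map_subtype_le Y).trans M22_le_D22) ?_ ?_ ?_
      · rwa [card_map_of_injective Spor.M22.subtype_injective]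
      · rintro _ ⟨y, hy, rfl⟩
        exact (key y).1 (h1 y hy)
      · rintro c hc hcd _ ⟨y, hy, rfl⟩
        exact ⟨(⟨c, hc⟩ * y * ⟨c, hc⟩⁻¹ :), h2 ⟨c, hc⟩ ((key ⟨c, hc⟩).2 hcd) y hy, rfl⟩
    rwa [map_eq_bot_iff_of_injective _ Spor.M22.subtype_injective] at h3

/-- **`M22` is locally balanced.** -/
theorem locallyBalanced {X : Type u} [Group X] (e : X ≃* ↥Spor.M22) : IsLocallyBalanced X := by
  have : Finite X := Finite.of_equiv _ e.symm.toEquiv
  refine (autCoreFree.congr e.symm).locallyBalanced ?_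
  rw [eq_bot_iff]
  intro z hz
  have h2 : e z ∈ center ↥Spor.M22 := by
    rw [mem_center_iff]
    intro g
    obtain ⟨x, rfl⟩ := e.surjective g
    rw [← map_mul, ← map_mul, mem_center_iff.1 hz x]
  rw [center_bot, mem_bot] at h2
  rw [mem_bot]
  exact (map_eq_one_iff e e.injective).1 h2

end Cfsg.Agent.UGT.End.M22
end
end

-- part: FixBN/HeCent
section
set_option linter.all false
open scoped Cfsg.Agent.FastGrp

/-!
# The centraliser of a group of order 49 in the Held group

`P₁, P₂, Z` generate a Sylow 7-subgroup `7^(1+2)` of the Held group, the centraliser of `⟨P₂, Z⟩` is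
`⟨P₂, Z⟩`, the elements `H, N` conjugate `P₂, Z` into `⟨P₁, P₂, Z⟩`, and `P₁, P₂, Z, H, N` generate the
Held group.
-/

set_option autoImplicit false

namespace Cfsg.Agent.FixBN.HeCent

open Cfsg.Spor Cfsg.Spor.He Cfsg.Agent.SporadicB.HePerm Cfsg.Agent.FixBN.HeData
open Cfsg.Agent.FixBN.HeStab

/-- first element of order 7 -/
def P₁ : Cfsg.Spor.He := wd p1W
/-- second element of order 7 -/
def P₂ : Cfsg.Spor.He := wd p2W
/-- the central element of order 7 -/
def Z : Cfsg.Spor.He := wd zW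
/-- an element of the normaliser of `⟨P₂, Z⟩` -/
def H : Cfsg.Spor.He := wd hW
/-- an element conjugating `⟨P₂, Z⟩` into `⟨P₁, P₂, Z⟩` -/
def N : Cfsg.Spor.He := wd nW

theorem wd_nil : wd [] = 1 := rfl

theorem wd_append (v w : List Gen) : wd (v ++ w) = wd v * wd w := by
  unfold wd
  rw [List.map_append, List.prod_append]

theorem wd_powWord (w : List Gen) (n : ℕ) : wd (powWord w n) = wd w ^ n := powWord_prod _ w n

theorem wd_flatten (l : List (List Gen)) : wd l.flatten = (l.map wd).prod := by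
  induction l with
  | nil => rfl
  | cons a l ih => rw [List.flatten_cons, wd_append, ih, List.map_cons, List.prod_cons]

/-! ### relations -/

theorem P₁_pow : P₁ ^ 7 = 1 := by
  have h := eq_of_chkB (v := powWord p1W 7) (w := []) (by decide +kernel)
  rwa [wd_powWord, wd_nil] at h

theorem P₂_pow : P₂ ^ 7 = 1 := by
  have h := eq_of_chkB (v := powWord p2W 7) (w := []) (by decide +kernel)
  rwa [wd_powWord, wd_nil] at h

theorem Z_pow : Z ^ 7 = 1 := by
  have h := eq_of_chkB (v := powWord zW 7) (w := []) (by decide +kernel)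
  rwa [wd_powWord, wd_nil] at h

theorem comm_P₂_Z : P₂ * Z = Z * P₂ := by
  have h := eq_of_chkB (v := p2W ++ zW) (w := zW ++ p2W) (by decide +kernel)
  rwa [wd_append, wd_append] at h

theorem comm_P₁_Z : P₁ * Z = Z * P₁ := by
  have h := eq_of_chkB (v := p1W ++ zW) (w := zW ++ p1W) (by decide +kernel)
  rwa [wd_append, wd_append] at h

theorem P₂_P₁ : P₂ * P₁ = P₁ * (P₂ * Z) := by
  have h := eq_of_chkB (v := p2W ++ p1W) (w := p1W ++ (p2W ++ zW)) (by decide +kernel)
  rwa [wd_append, wd_append, wd_append] at h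

theorem H_P₂ : H * P₂ = Z * H := by
  have h := eq_of_chkB (v := hW ++ p2W) (w := zW ++ hW) (by decide +kernel)
  rwa [wd_append, wd_append] at h

theorem H_Z : H * Z = P₂ ^ 6 * Z ^ 3 * H := by
  have h := eq_of_chkB (v := hW ++ zW) (w := powWord p2W 6 ++ powWord zW 3 ++ hW) (by decide +kernel)
  rwa [wd_append, wd_append, wd_append, wd_powWord, wd_powWord] at h

theorem N_P₂ : N * P₂ = Z * N := by
  have h := eq_of_chkB (v := nW ++ p2W) (w := zW ++ nW) (by decide +kernel)
  rwa [wd_append, wd_append] at h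

theorem N_Z : N * Z = P₁ ^ 5 * P₂ * N := by
  have h := eq_of_chkB (v := nW ++ zW) (w := powWord p1W 5 ++ p2W ++ nW) (by decide +kernel)
  rwa [wd_append, wd_append, wd_append, wd_powWord] at h

theorem V_p1 : wd p1V = P₁⁻¹ := by
  have h := eq_of_chkB (v := p1V ++ p1W) (w := []) (by decide +kernel)
  rw [wd_append, wd_nil] at h
  exact eq_inv_of_mul_eq_one_left h

theorem V_p2 : wd p2V = P₂⁻¹ := by
  have h := eq_of_chkB (v := p2V ++ p2W) (w := []) (by decide +kernel)
  rw [wd_append, wd_nil] at h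
  exact eq_inv_of_mul_eq_one_left h

theorem V_z : wd zV = Z⁻¹ := by
  have h := eq_of_chkB (v := zV ++ zW) (w := []) (by decide +kernel)
  rw [wd_append, wd_nil] at h
  exact eq_inv_of_mul_eq_one_left h

theorem V_h : wd hV = H⁻¹ := by
  have h := eq_of_chkB (v := hV ++ hW) (w := []) (by decide +kernel)
  rw [wd_append, wd_nil] at h
  exact eq_inv_of_mul_eq_one_left h

theorem V_n : wd nV = N⁻¹ := by
  have h := eq_of_chkB (v := nV ++ nW) (w := []) (by decide +kernel)
  rw [wd_append, wd_nil] at h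
  exact eq_inv_of_mul_eq_one_left h

/-- the generators as products -/
def prodOf : Gen → List (List Gen)
  | .a => ofA
  | .b => ofB
  | .c => ofC
  | .d => ofD
  | .e => ofE
  | .f => ofF
  | .g => ofG

private noncomputable def _root_.Cfsg.Agent.LsF.ff40810_0 : {f // @Cfsg.Agent.SporadicB.HePerm.tab = f} := ⟨_, by first | (delta Cfsg.Agent.SporadicB.HePerm.tab; (try delta Cfsg.Agent.SporadicB.HePerm.tab.match_1); (try delta Cfsg.Spor.He.Gen.casesOn); exact rfl) | exact rfl⟩
private noncomputable def _root_.Cfsg.Agent.LsF.ff40810_1 : {f // @Cfsg.Agent.SporadicB.HePerm.act = f} := ⟨_, by first | (delta Cfsg.Agent.SporadicB.HePerm.act List.brecOn List.brecOn.go Cfsg.Agent.SporadicB.HePerm.act._f; rewrite [Cfsg.Agent.LsF.ff40810_0.2]; (try delta Cfsg.Agent.SporadicB.HePerm.act.match_1); (try delta List.casesOn); first | dsimp -zeta only | exact rfl) | exact rfl⟩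
private noncomputable def _root_.Cfsg.Agent.LsF.ff40810_2 : {f // @Cfsg.Agent.FixBN.HeStab.chkB = f} := ⟨_, by first | (delta Cfsg.Agent.FixBN.HeStab.chkB; rewrite [Cfsg.Agent.LsF.ff40810_1.2, Cfsg.Agent.LsF.and_eq]; exact rfl) | exact rfl⟩
private noncomputable def _root_.Cfsg.Agent.LsF.ff40810_3 : {f // @Cfsg.Agent.FixBN.HeCent.prodOf = f} := ⟨_, by first | (delta Cfsg.Agent.FixBN.HeCent.prodOf; (try delta Cfsg.Agent.FixBN.HeCent.prodOf.match_1); (try delta Cfsg.Spor.He.Gen.casesOn); exact rfl) | exact rfl⟩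
theorem chkGen : (gens.all fun x => chkB (prodOf x).flatten [x]) = true := by ((try (rewrite [Cfsg.Agent.LsF.ff40810_2.2, Cfsg.Agent.LsF.ff40810_3.2, Cfsg.Agent.LsF.all_eq, Cfsg.Agent.LsF.flatten_eq])); decide +kernel)

theorem of_eq (x : Gen) : (PresentedGroup.of x : Cfsg.Spor.He) = ((prodOf x).map wd).prod := by
  have h := chkGen
  rw [List.all_eq_true] at h
  have h1 := eq_of_chkB (h x (mem_gens x))
  rw [wd_flatten] at h1
  rw [h1]
  unfold wd
  rw [List.map_cons, List.map_nil, List.prod_cons, List.prod_nil, mul_one]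

theorem prodOf_mem (x : Gen) : ∀ v ∈ prodOf x,
    v ∈ [p1W, p1V, p2W, p2V, zW, zV, hW, hV, nW, nV] := by
  cases x <;> simp [prodOf, ofA, ofB, ofC, ofD, ofE, ofF, ofG]

/-- A subgroup containing `P₁, P₂, Z, H, N` is everything. -/
theorem eq_top_of_mem {S : Subgroup Cfsg.Spor.He} (h1 : P₁ ∈ S) (h2 : P₂ ∈ S) (h3 : Z ∈ S)
    (h4 : H ∈ S) (h5 : N ∈ S) : S = ⊤ := by
  have hw : ∀ v ∈ [p1W, p1V, p2W, p2V, zW, zV, hW, hV, nW, nV], wd v ∈ S := by
    intro v hv
    simp only [List.mem_cons, List.not_mem_nil, or_false] at hv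
    rcases hv with rfl | rfl | rfl | rfl | rfl | rfl | rfl | rfl | rfl | rfl
    · exact h1
    · rw [V_p1]; exact S.inv_mem h1
    · exact h2
    · rw [V_p2]; exact S.inv_mem h2
    · exact h3
    · rw [V_z]; exact S.inv_mem h3
    · exact h4
    · rw [V_h]; exact S.inv_mem h4
    · exact h5
    · rw [V_n]; exact S.inv_mem h5
  have hx : ∀ x : Gen, (PresentedGroup.of x : Cfsg.Spor.He) ∈ S := by
    intro x
    rw [of_eq]
    apply S.list_prod_mem
    intro y hy
    obtain ⟨v, hv, rfl⟩ := List.mem_map.mp hy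
    exact hw v (prodOf_mem x v hv)
  rw [eq_top_iff, ← PresentedGroup.closure_range_of, Subgroup.closure_le]
  rintro _ ⟨x, rfl⟩
  exact hx x

/-! ### the group of order 49 -/

/-- the elements of the group of order 49 -/
def el (i j : ℕ) : Cfsg.Spor.He := P₂ ^ i * Z ^ j

theorem wd_el (i j : ℕ) : wd (powWord p2W i ++ powWord zW j) = el i j := by
  rw [wd_append, wd_powWord, wd_powWord]; rfl

theorem el_pow (i j : ℕ) : el i j ^ 7 = 1 := by
  have hc : Commute (P₂ ^ i) (Z ^ j) := (show Commute P₂ Z from comm_P₂_Z).pow_pow i j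
  unfold el
  rw [hc.mul_pow, ← pow_mul, ← pow_mul, mul_comm i, mul_comm j, pow_mul, pow_mul, P₂_pow, Z_pow,
    one_pow, one_pow, one_mul]

theorem w35 : wd e35 = el 3 5 := by rw [← wd_el]; exact eq_of_chkB (by decide +kernel)
theorem w30 : wd e30 = el 3 0 := by rw [← wd_el]; exact eq_of_chkB (by decide +kernel)
theorem w60 : wd e60 = el 6 0 := by rw [← wd_el]; exact eq_of_chkB (by decide +kernel)
theorem w23 : wd f23 = el 2 3 := by rw [← wd_el]; exact eq_of_chkB (by decide +kernel)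
theorem w42 : wd f42 = el 4 2 := by rw [← wd_el]; exact eq_of_chkB (by decide +kernel)
theorem w52 : wd f52 = el 5 2 := by rw [← wd_el]; exact eq_of_chkB (by decide +kernel)
theorem w44 : wd f44 = el 4 4 := by rw [← wd_el]; exact eq_of_chkB (by decide +kernel)
theorem w56 : wd f56 = el 5 6 := by rw [← wd_el]; exact eq_of_chkB (by decide +kernel)
theorem w13 : wd f13 = el 1 3 := by rw [← wd_el]; exact eq_of_chkB (by decide +kernel)
theorem w22 : wd f22 = el 2 2 := by rw [← wd_el]; exact eq_of_chkB (by decide +kernel)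
theorem w00 : wd [] = el 0 0 := by unfold el; rw [pow_zero, pow_zero, mul_one]; rfl
theorem w10 : wd p2W = el 1 0 := by unfold el; rw [pow_one, pow_zero, mul_one]; rfl

section

variable {c : Cfsg.Spor.He} (h2 : c * P₂ = P₂ * c) (h3 : c * Z = Z * c)

include h2 h3

theorem comm_el (i j : ℕ) : c * el i j = el i j * c :=
  ((show Commute c P₂ from h2).pow_right i).mul_right ((show Commute c Z from h3).pow_right j)

theorem comm_apply {w : List Gen} {i j : ℕ} (hw : wd w = el i j) (y : Fin 2058) :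
    phi c (phi (wd w) y) = phi (wd w) (phi c y) := by
  rw [← Equiv.Perm.mul_apply, ← Equiv.Perm.mul_apply, ← map_mul, ← map_mul, hw, comm_el h2 h3]

end

/-- bounded existential quantifier -/
def anyBelow (n : ℕ) (p : ℕ → Bool) : Bool := Nat.rec false (fun k ih => or (p k) ih) n

theorem of_anyBelow {p : ℕ → Bool} : ∀ {n : ℕ}, anyBelow n p = true → ∃ i < n, p i = true := by
  intro n
  induction n with
  | zero => intro h; exact absurd (show false = true from h) (by decide)
  | succ k ih =>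
    intro h
    have h' : or (p k) (anyBelow k p) = true := h
    rw [Bool.or_eq_true] at h'
    rcases h' with h1 | h1
    · exact ⟨k, Nat.lt_succ_self k, h1⟩
    · obtain ⟨i, hi, hp⟩ := ih h1
      exact ⟨i, Nat.lt_succ_of_lt hi, hp⟩

/-! ### where the point `0` can go -/

/-- check (i) -/
def chk1 (y : ℕ) : Bool :=
  or (not (Nat.beq (colr y (act e35 y)) (col (act e35 0))))
    (or (not (Nat.beq (colr y (act e30 y)) (col (act e30 0))))
      (or (anyBelow 49 fun k => Nat.beq y (look orbA k)) (anyBelow 49 fun k => Nat.beq y (look orbB k))))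

private noncomputable def _root_.Cfsg.Agent.LsF.ff40810_4 : {f // @Cfsg.Agent.SporadicB.HePerm.allBelow = f} := ⟨_, by first | (delta Cfsg.Agent.SporadicB.HePerm.allBelow; rewrite [Cfsg.Agent.LsF.and_eq]; exact rfl) | exact rfl⟩
private noncomputable def _root_.Cfsg.Agent.LsF.ff40810_5 : {f // @Cfsg.Agent.SporadicB.HePerm.nth = f} := ⟨_, by first | (delta Cfsg.Agent.SporadicB.HePerm.nth List.brecOn List.brecOn.go Cfsg.Agent.SporadicB.HePerm.nth._f; (try delta Cfsg.Agent.SporadicB.HePerm.nth.match_1); (try delta List.casesOn); first | dsimp -zeta only | exact rfl) | exact rfl⟩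
private noncomputable def _root_.Cfsg.Agent.LsF.ff40810_6 : {f // @Cfsg.Agent.FixBN.HeStab.stp = f} := ⟨_, by first | (delta Cfsg.Agent.FixBN.HeStab.stp; rewrite [Cfsg.Agent.LsF.ff40810_1.2, Cfsg.Agent.LsF.ff40810_5.2]; exact rfl) | exact rfl⟩
private noncomputable def _root_.Cfsg.Agent.LsF.ff40810_7 : {f // @Cfsg.Agent.FixBN.HeStab.walk = f} := ⟨_, by first | (delta Cfsg.Agent.FixBN.HeStab.walk; rewrite [Cfsg.Agent.LsF.ff40810_6.2, Cfsg.Agent.LsF.cond_eq]; exact rfl) | exact rfl⟩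
private noncomputable def _root_.Cfsg.Agent.LsF.ff40810_8 : {f // @Cfsg.Agent.FixBN.HeStab.colr = f} := ⟨_, by first | (delta Cfsg.Agent.FixBN.HeStab.colr; rewrite [Cfsg.Agent.LsF.ff40810_7.2]; exact rfl) | exact rfl⟩
private noncomputable def _root_.Cfsg.Agent.LsF.ff40810_9 : {f // @Cfsg.Agent.FixBN.HeCent.anyBelow = f} := ⟨_, by first | (delta Cfsg.Agent.FixBN.HeCent.anyBelow; rewrite [Cfsg.Agent.LsF.or_eq]; exact rfl) | exact rfl⟩
private noncomputable def _root_.Cfsg.Agent.LsF.ff40810_10 : {f // @Cfsg.Agent.FixBN.HeCent.chk1 = f} := ⟨_, by first | (delta Cfsg.Agent.FixBN.HeCent.chk1; rewrite [Cfsg.Agent.LsF.ff40810_8.2, Cfsg.Agent.LsF.ff40810_1.2, Cfsg.Agent.LsF.ff40810_9.2, Cfsg.Agent.LsF.or_eq, Cfsg.Agent.LsF.not_eq]; exact rfl) | exact rfl⟩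
theorem chk1_all : allBelow 2058 chk1 = true := by ((try (rewrite [Cfsg.Agent.LsF.ff40810_4.2, Cfsg.Agent.LsF.ff40810_10.2])); decide +kernel)

theorem chkA : (allBelow 49 fun k =>
    Nat.beq (look orbA k) (act (powWord p2W (k / 7) ++ powWord zW (k % 7)) 0)) = true := by
  decide +kernel

theorem chkB' : (allBelow 49 fun k =>
    Nat.beq (look orbB k) (act (powWord p2W (k / 7) ++ powWord zW (k % 7)) 38)) = true := by
  decide +kernel

theorem colr_zero (y : Fin 2058) : colr (0 : Fin 2058) y = col y := by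
  rw [colr_eq 1 (x := 0) (by rw [map_one]; rfl) y, map_one]; rfl

/-- the action of a word on a point -/
theorem act_eq (w : List Gen) (y : Fin 2058) : act w y = (phi (wd w) y : ℕ) := (phi_wd_apply w y).symm

theorem image_zero {c : Cfsg.Spor.He} (h2 : c * P₂ = P₂ * c) (h3 : c * Z = Z * c) :
    (∃ i j : ℕ, phi c 0 = phi (el i j) 0) ∨ (∃ i j : ℕ, phi c 0 = phi (el i j) 38) := by
  have key : ∀ {w : List Gen} {i j : ℕ}, wd w = el i j →
      Nat.beq (colr (phi c 0) (act w (phi c 0))) (col (act w 0)) = true := by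
    intro w i j hw
    have h0 : act w 0 = (phi (wd w) 0 : ℕ) := act_eq w 0
    rw [act_eq, ← comm_apply h2 h3 hw 0, colr_inv, colr_zero, h0]
    exact Nat.beq_refl _
  have h := of_allBelow chk1_all (phi c 0) (phi c 0).2
  unfold chk1 at h
  rw [key w35, key w30, Bool.not_true, Bool.false_or, Bool.false_or, Bool.or_eq_true] at h
  rcases h with h | h
  · obtain ⟨k, hk, h⟩ := of_anyBelow h
    have h4 := Nat.eq_of_beq_eq_true (of_allBelow chkA k hk)
    left
    refine ⟨k / 7, k % 7, Fin.ext ?_⟩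
    rw [Nat.eq_of_beq_eq_true h, h4, ← wd_el]
    exact act_eq _ 0
  · obtain ⟨k, hk, h⟩ := of_anyBelow h
    have h4 := Nat.eq_of_beq_eq_true (of_allBelow chkB' k hk)
    right
    refine ⟨k / 7, k % 7, Fin.ext ?_⟩
    rw [Nat.eq_of_beq_eq_true h, h4, ← wd_el]
    exact act_eq _ 38

/-! ### the point `0` does not go to `38` -/

/-- check (ii) -/
def chk2 (y : ℕ) : Bool :=
  or (not (Nat.beq (col (act uW y)) (col 11)))
    (or (not (Nat.beq (col (act uW (act f44 y))) (col (act f44 11))))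
      (not (Nat.beq (col (act uW (act f22 y))) (col (act f22 11)))))

private noncomputable def _root_.Cfsg.Agent.LsF.ff40810_11 : {f // @Cfsg.Agent.FixBN.HeCent.chk2 = f} := ⟨_, by first | (delta Cfsg.Agent.FixBN.HeCent.chk2; rewrite [Cfsg.Agent.LsF.ff40810_1.2, Cfsg.Agent.LsF.or_eq, Cfsg.Agent.LsF.not_eq]; exact rfl) | exact rfl⟩
theorem chk2_all : allBelow 2058 chk2 = true := by ((try (rewrite [Cfsg.Agent.LsF.ff40810_4.2, Cfsg.Agent.LsF.ff40810_11.2])); decide +kernel)

theorem u_38 : act uW 38 = 0 := by decide +kernel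

theorem not_38 {c : Cfsg.Spor.He} (h2 : c * P₂ = P₂ * c) (h3 : c * Z = Z * c) : phi c 0 ≠ 38 := by
  intro h0
  have hu : phi (wd uW * c) 0 = 0 := by
    rw [map_mul, Equiv.Perm.mul_apply, h0]
    exact Fin.ext ((act_eq uW 38).symm.trans u_38)
  have key : ∀ {w : List Gen} {i j : ℕ}, wd w = el i j →
      Nat.beq (col (act uW (act w (phi c 11)))) (col (act w 11)) = true := by
    intro w i j hw
    have h1 : act w 11 = (phi (wd w) 11 : ℕ) := act_eq w 11
    rw [act_eq w, ← comm_apply h2 h3 hw 11, act_eq uW, ← Equiv.Perm.mul_apply, ← map_mul, col_inv hu, h1]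
    exact Nat.beq_refl _
  have h := of_allBelow chk2_all (phi c 11) (phi c 11).2
  have e0 := key w00
  unfold chk2 at h
  rw [act_nil, act_nil] at e0
  rw [e0, key w44, key w22] at h
  exact absurd h (by decide)

/-! ### the stabiliser of `0` -/

/-- check (iii) for the point `1` -/
def chk3 (y : ℕ) : Bool :=
  or (Nat.beq y 1) (or (not (Nat.beq (col (act f23 y)) (col (act f23 1))))
    (or (not (Nat.beq (col (act f42 y)) (col (act f42 1))))
      (not (Nat.beq (col (act f52 y)) (col (act f52 1))))))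

/-- check (iii) for the point `32` -/
def chk4 (y : ℕ) : Bool :=
  or (Nat.beq y 32) (or (not (Nat.beq (col (act p2W y)) (col (act p2W 32))))
    (or (not (Nat.beq (col (act f44 y)) (col (act f44 32))))
      (not (Nat.beq (col (act f56 y)) (col (act f56 32))))))

/-- check (iii) for the point `8` -/
def chk5 (y : ℕ) : Bool :=
  or (Nat.beq y 8) (or (not (Nat.beq (col y) (col 8)))
    (or (not (Nat.beq (col (act e60 y)) (col (act e60 8))))
      (not (Nat.beq (col (act f13 y)) (col (act f13 8))))))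

private noncomputable def _root_.Cfsg.Agent.LsF.ff40810_12 : {f // @Cfsg.Agent.FixBN.HeCent.chk3 = f} := ⟨_, by first | (delta Cfsg.Agent.FixBN.HeCent.chk3; rewrite [Cfsg.Agent.LsF.ff40810_1.2, Cfsg.Agent.LsF.or_eq, Cfsg.Agent.LsF.not_eq]; exact rfl) | exact rfl⟩
theorem chk3_all : allBelow 2058 chk3 = true := by ((try (rewrite [Cfsg.Agent.LsF.ff40810_4.2, Cfsg.Agent.LsF.ff40810_12.2])); decide +kernel)
private noncomputable def _root_.Cfsg.Agent.LsF.ff40810_13 : {f // @Cfsg.Agent.FixBN.HeCent.chk4 = f} := ⟨_, by first | (delta Cfsg.Agent.FixBN.HeCent.chk4; rewrite [Cfsg.Agent.LsF.ff40810_1.2, Cfsg.Agent.LsF.or_eq, Cfsg.Agent.LsF.not_eq]; exact rfl) | exact rfl⟩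
theorem chk4_all : allBelow 2058 chk4 = true := by ((try (rewrite [Cfsg.Agent.LsF.ff40810_4.2, Cfsg.Agent.LsF.ff40810_13.2])); decide +kernel)
private noncomputable def _root_.Cfsg.Agent.LsF.ff40810_14 : {f // @Cfsg.Agent.FixBN.HeCent.chk5 = f} := ⟨_, by first | (delta Cfsg.Agent.FixBN.HeCent.chk5; rewrite [Cfsg.Agent.LsF.ff40810_1.2, Cfsg.Agent.LsF.or_eq, Cfsg.Agent.LsF.not_eq]; exact rfl) | exact rfl⟩
theorem chk5_all : allBelow 2058 chk5 = true := by ((try (rewrite [Cfsg.Agent.LsF.ff40810_4.2, Cfsg.Agent.LsF.ff40810_14.2])); decide +kernel)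

theorem eq_one_of_fix {c : Cfsg.Spor.He} (h2 : c * P₂ = P₂ * c) (h3 : c * Z = Z * c)
    (h0 : phi c 0 = 0) : c = 1 := by
  have key : ∀ (x : Fin 2058) {w : List Gen} {i j : ℕ}, wd w = el i j →
      Nat.beq (col (act w (phi c x))) (col (act w x)) = true := by
    intro x w i j hw
    rw [act_eq, ← comm_apply h2 h3 hw x, col_inv h0, act_eq]
    exact Nat.beq_refl _
  have e1 : phi (1 : Cfsg.Spor.He) = 1 := map_one phi
  apply eq_of_base
  · rw [h0, e1]; rfl
  · have h := of_allBelow chk3_all (phi c 1) (phi c 1).2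
    have a1 : Nat.beq (col (act f23 (phi c 1))) (col (act f23 1)) = true := key 1 w23
    have a2 : Nat.beq (col (act f42 (phi c 1))) (col (act f42 1)) = true := key 1 w42
    have a3 : Nat.beq (col (act f52 (phi c 1))) (col (act f52 1)) = true := key 1 w52
    unfold chk3 at h
    rw [a1, a2, a3, Bool.not_true, Bool.or_false, Bool.or_false, Bool.or_false] at h
    rw [e1]
    exact Fin.ext (Nat.eq_of_beq_eq_true h)
  · have h := of_allBelow chk4_all (phi c 32) (phi c 32).2
    have a1 : Nat.beq (col (act p2W (phi c 32))) (col (act p2W 32)) = true := key 32 w10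
    have a2 : Nat.beq (col (act f44 (phi c 32))) (col (act f44 32)) = true := key 32 w44
    have a3 : Nat.beq (col (act f56 (phi c 32))) (col (act f56 32)) = true := key 32 w56
    unfold chk4 at h
    rw [a1, a2, a3, Bool.not_true, Bool.or_false, Bool.or_false, Bool.or_false] at h
    rw [e1]
    exact Fin.ext (Nat.eq_of_beq_eq_true h)
  · have h := of_allBelow chk5_all (phi c 8) (phi c 8).2
    have a1 : Nat.beq (col (phi c 8)) (col 8) = true := key 8 w00
    have a2 : Nat.beq (col (act e60 (phi c 8))) (col (act e60 8)) = true := key 8 w60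
    have a3 : Nat.beq (col (act f13 (phi c 8))) (col (act f13 8)) = true := key 8 w13
    unfold chk5 at h
    rw [a1, a2, a3, Bool.not_true, Bool.or_false, Bool.or_false, Bool.or_false] at h
    rw [e1]
    exact Fin.ext (Nat.eq_of_beq_eq_true h)

/-- **The centraliser of the group `⟨P₂, Z⟩` of order 49 is this group.** -/
theorem eq_el_of_comm {c : Cfsg.Spor.He} (h2 : c * P₂ = P₂ * c) (h3 : c * Z = Z * c) :
    ∃ i j : ℕ, c = el i j := by
  have hcom : ∀ i j : ℕ, Commute (el i j)⁻¹ P₂ ∧ Commute (el i j)⁻¹ Z := by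
    intro i j
    have a2 : Commute (el i j) P₂ :=
      ((Commute.refl P₂).pow_left i).mul_left ((show Commute Z P₂ from comm_P₂_Z.symm).pow_left j)
    have a3 : Commute (el i j) Z :=
      ((show Commute P₂ Z from comm_P₂_Z).pow_left i).mul_left ((Commute.refl Z).pow_left j)
    exact ⟨a2.inv_left, a3.inv_left⟩
  rcases image_zero h2 h3 with ⟨i, j, h⟩ | ⟨i, j, h⟩
  · refine ⟨i, j, ?_⟩
    have h1 : (el i j)⁻¹ * c = 1 := by
      apply eq_one_of_fix
      · exact (hcom i j).1.mul_left (show Commute c P₂ from h2)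
      · exact (hcom i j).2.mul_left (show Commute c Z from h3)
      · rw [map_mul, map_inv, Equiv.Perm.mul_apply, h, inv_app]
    exact (inv_mul_eq_one.mp h1).symm
  · exfalso
    refine not_38 (c := (el i j)⁻¹ * c) ?_ ?_ ?_
    · exact (hcom i j).1.mul_left (show Commute c P₂ from h2)
    · exact (hcom i j).2.mul_left (show Commute c Z from h3)
    · rw [map_mul, map_inv, Equiv.Perm.mul_apply, h, inv_app]

end Cfsg.Agent.FixBN.HeCent

private theorem dce_1b31fc31e1e1 : _root_.True := by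
  try have : _root_.True := by simp only [_root_.Cfsg.Agent.FixBN.HeCent.prodOf.eq_4]
  try have : _root_.True := by simp only [_root_.Cfsg.Agent.FixBN.HeCent.prodOf.eq_7]
  try have : _root_.True := by simp only [_root_.Cfsg.Agent.FixBN.HeData.ofD.eq_1]
  try have : _root_.True := by simp only [_root_.Cfsg.Agent.FixBN.HeCent.prodOf.eq_5]
  try have : _root_.True := by simp only [_root_.Cfsg.Agent.FixBN.HeData.ofF.eq_1]
  try have : _root_.True := by simp only [_root_.Cfsg.Agent.FixBN.HeData.ofG.eq_1]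
  try have : _root_.True := by simp only [_root_.Cfsg.Agent.FixBN.HeData.ofC.eq_1]
  try have : _root_.True := by simp only [_root_.Cfsg.Agent.FixBN.HeCent.prodOf.eq_3]
  try have : _root_.True := by simp only [_root_.Cfsg.Agent.FixBN.HeData.ofE.eq_1]
  try have : _root_.True := by simp only [_root_.Cfsg.Agent.FixBN.HeData.ofA.eq_1]
  try have : _root_.True := by simp only [_root_.Cfsg.Agent.FixBN.HeCent.prodOf.eq_6]
  try have : _root_.True := by simp only [_root_.Cfsg.Agent.FixBN.HeData.ofB.eq_1]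
  try have : _root_.True := by simp only [_root_.Cfsg.Agent.FixBN.HeCent.prodOf.eq_1]
  try have : _root_.True := by simp only [_root_.Cfsg.Agent.FixBN.HeCent.prodOf.eq_2]
  exact _root_.True.intro
end
end
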